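import Cfsg.Agent.Lib.SpFourExotic.Char2

/-!
Commutation in the model over a field where two is invertible.
-/

set_option autoImplicit false

namespace Cfsg.Agent.Lib.SpFourExotic.Odd

variable {K : Type*} [Field K]

/-- The centre. -/
def zed (K : Type*) [Field K] : Subgroup (U4 K) where
  carrier := {a | a.t = 0 ∧ a.u = 0 ∧ a.x = 0}
  one_mem' := ⟨rfl, rfl, rfl⟩
  mul_mem' {a b} ha hb := by
    obtain ⟨a1, a2, a3⟩ := ha
    obtain ⟨b1, b2, b3⟩ := hb
    exact ⟨by simp [a1, b1], by simp [a2, b2], by simp [a1, a2, a3, b2, b3]⟩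
  inv_mem' {a} ha := by
    obtain ⟨a1, a2, a3⟩ := ha
    exact ⟨by simp [a1], by simp [a2], by simp [a1, a3]⟩

theorem mem_zed {a : U4 K} : a ∈ zed K ↔ a.t = 0 ∧ a.u = 0 ∧ a.x = 0 := Iff.rfl

theorem zed_le_mid : zed K ≤ mid K := fun _ h => mem_mid.2 ⟨h.1, h.2.1⟩

/-- A line of the quotient by the middle subgroup, off the abelian radical. -/
def line (l : K) : Subgroup (U4 K) where
  carrier := {a | a.u = l * a.t}
  one_mem' := by show (0 : K) = l * 0; ring
  mul_mem' {a b} ha hb := by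
    show (a * b).u = l * (a * b).t
    simp [show a.u = l * a.t from ha, show b.u = l * b.t from hb]; ring
  inv_mem' {a} ha := by show a⁻¹.u = l * a⁻¹.t; simp [show a.u = l * a.t from ha]

theorem mem_line {l : K} {a : U4 K} : a ∈ line l ↔ a.u = l * a.t := Iff.rfl

theorem mid_le_line (l : K) : mid K ≤ line l := fun a ha => by
  rw [mem_line, (mem_mid.1 ha).1, (mem_mid.1 ha).2, mul_zero]

theorem mid_le_rad1 : mid K ≤ rad1 K := inf_le_left

/-- The second coordinate of a line, corrected to be additive. -/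
def xh (l : K) (a : U4 K) : K := a.x - l * (a.t * a.t) / 2

variable (h2 : (2 : K) ≠ 0)

include h2

theorem commute_iff {a b : U4 K} : a * b = b * a ↔
    a.t * b.u = b.t * a.u ∧
      2 * a.t * b.x + a.t * a.t * b.u = 2 * b.t * a.x + b.t * b.t * a.u := by
  constructor
  · intro h
    have h1 := congrArg U4.x h
    have h2 := congrArg U4.y h
    simp only [U4.mul_x, U4.mul_y] at h1 h2
    exact ⟨by linear_combination h1, by linear_combination h2⟩
  · rintro ⟨h1, h2⟩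
    ext
    · simp [add_comm]
    · simp [add_comm]
    · simp; linear_combination h1
    · simp; linear_combination h2

omit h2 in
theorem zed_central {a : U4 K} (ha : a ∈ zed K) (b : U4 K) : a * b = b * a := by
  obtain ⟨a1, a2, a3⟩ := mem_zed.1 ha
  ext <;> simp [a1, a2, a3, add_comm]

theorem mem_zed_iff {a : U4 K} : a ∈ zed K ↔ ∀ b, a * b = b * a := by
  refine ⟨fun ha b => zed_central ha b, fun h => ?_⟩
  have h1 := (commute_iff h2).1 (h ⟨0, 1, 0, 0⟩)
  have h3 := (commute_iff h2).1 (h ⟨0, 0, 1, 0⟩)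
  have h4 := (commute_iff h2).1 (h ⟨1, 0, 0, 0⟩)
  simp at h1 h3 h4
  obtain ⟨hu, h4'⟩ := h4
  refine ⟨h1, hu.symm, ?_⟩
  rw [← hu] at h4'
  simpa [h2, eq_comm] using h4'

theorem xh_mul {l : K} {a b : U4 K} (_ha : a ∈ line l) (hb : b ∈ line l) :
    xh l (a * b) = xh l a + xh l b := by
  simp [xh, mem_line.1 hb]
  field_simp
  ring

/-- The commutator form of a line. -/
theorem line_form {l : K} {a b : U4 K} (ha : a ∈ line l) (hb : b ∈ line l) :
    a * b = b * a * ⟨0, 0, 0, 2 * (a.t * xh l b - b.t * xh l a)⟩ := by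
  ext <;> simp [mem_line.1 ha, mem_line.1 hb, xh]
  · ring
  · ring
  · ring
  · field_simp; ring

omit h2 in
theorem comm_x (a b : U4 K) : (a * b * a⁻¹ * b⁻¹).x = a.t * b.u - b.t * a.u := by
  simp; ring

omit h2 in
theorem comm_mid (a b : U4 K) : a * b * a⁻¹ * b⁻¹ ∈ mid K :=
  mem_mid.2 ⟨by simp, by simp⟩

theorem comm_y_mid {a m : U4 K} (hm : m ∈ mid K) :
    a * m * a⁻¹ * m⁻¹ = ⟨0, 0, 0, 2 * a.t * m.x⟩ := by
  obtain ⟨m1, m2⟩ := mem_mid.1 hm
  ext <;> simp [m1, m2] <;> ring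

theorem mid_comm {a b : U4 K} (ha : a ∈ mid K) (hb : b ∈ mid K) : a * b = b * a := by
  obtain ⟨a1, a2⟩ := mem_mid.1 ha
  obtain ⟨b1, b2⟩ := mem_mid.1 hb
  refine (commute_iff h2).2 ⟨?_, ?_⟩ <;> simp [a1, a2, b1, b2]

theorem rad1_comm' {a b : U4 K} (ha : a ∈ rad1 K) (hb : b ∈ rad1 K) : a * b = b * a := by
  rw [mem_rad1] at ha hb
  refine (commute_iff h2).2 ⟨?_, ?_⟩ <;> simp [ha, hb]

/-- An abelian subgroup of rank two over the field. -/
def ab (l m : K) : Subgroup (U4 K) where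
  carrier := {a | a.u = l * a.t ∧ a.x = m * a.t + l * (a.t * a.t) / 2}
  one_mem' := ⟨by show (0 : K) = _; simp, by show (0 : K) = _; simp⟩
  mul_mem' {a b} ha hb := by
    refine ⟨?_, ?_⟩
    · simp [ha.1, hb.1]; ring
    · simp [ha.2, hb.1, hb.2]; field_simp; ring
  inv_mem' {a} ha := by
    refine ⟨?_, ?_⟩
    · simp [ha.1]
    · simp [ha.1, ha.2]; field_simp; ring

theorem mem_ab {l m : K} {a : U4 K} :
    a ∈ ab h2 l m ↔ a.u = l * a.t ∧ a.x = m * a.t + l * (a.t * a.t) / 2 := Iff.rfl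

theorem ab_comm {l m : K} {a b : U4 K} (ha : a ∈ ab h2 l m) (hb : b ∈ ab h2 l m) :
    a * b = b * a := by
  refine (commute_iff h2).2 ⟨?_, ?_⟩
  · rw [ha.1, hb.1]; ring
  · rw [ha.1, hb.1, ha.2, hb.2]; field_simp; ring

theorem mem_ab_of_commute {c b : U4 K} (hc : c.t ≠ 0) (h : c * b = b * c) :
    b ∈ ab h2 (c.u / c.t) (c.x / c.t - c.u / c.t * c.t / 2) := by
  obtain ⟨h1, h3⟩ := (commute_iff h2).1 h
  have hu : b.u = c.u / c.t * b.t := by field_simp; linear_combination h1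
  refine ⟨hu, ?_⟩
  refine mul_left_cancel₀ (mul_ne_zero h2 hc) ?_
  rw [hu] at h3
  field_simp at h3 ⊢
  linear_combination h3

theorem zed_le_ab (l m : K) : zed K ≤ ab h2 l m := fun a ha => by
  obtain ⟨a1, a2, a3⟩ := mem_zed.1 ha
  exact ⟨by simp [a1, a2], by simp [a1, a3]⟩

omit h2 in
theorem line_mid {l : K} {a : U4 K} (ha : a ∈ line l) (ht : a.t = 0) : a ∈ mid K :=
  mem_mid.2 ⟨ht, by rw [mem_line.1 ha, ht, mul_zero]⟩

end Cfsg.Agent.Lib.SpFourExotic.Odd
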