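import Cfsg.Agent.Lib.SpFourExotic.Char2

/-!
Automorphisms induced by the system on subgroups given in coordinates: Sylow subgroups, series
stabilisers, extension and restriction.
-/

set_option autoImplicit false

namespace Cfsg.Agent.Lib.SpFourExotic.Odd

open Cfsg Cfsg.FusionSystem Cfsg.Agent.Lib.Fusion Cfsg.Agent.Lib.Fusion87

section Stab

variable {D : Type*} [Group D] {p : ℕ}

/-- The stabiliser of a series `1 ≤ Z ≤ M ≤ D`. -/
def stab3 (M Z : Subgroup D) (hZM : Z ≤ M) : Subgroup (MulAut D) where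
  carrier := {a | (∀ x, x⁻¹ * a x ∈ M) ∧ (∀ x ∈ M, x⁻¹ * a x ∈ Z) ∧ ∀ x ∈ Z, a x = x}
  one_mem' := ⟨fun x => by simp, fun x _ => by simp, fun x _ => rfl⟩
  mul_mem' := by
    rintro a b ⟨a1, a2, a3⟩ ⟨b1, b2, b3⟩
    have e : ∀ x, x⁻¹ * (a * b) x = x⁻¹ * b x * ((b x)⁻¹ * a (b x)) := fun x => by
      rw [MulAut.mul_apply]; group
    refine ⟨fun x => ?_, fun x hx => ?_, fun x hx => by rw [MulAut.mul_apply, b3 x hx, a3 x hx]⟩
    · rw [e]; exact M.mul_mem (b1 x) (a1 _)
    · rw [e]
      refine Z.mul_mem (b2 x hx) (a2 _ ?_)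
      have := M.mul_mem hx (hZM (b2 x hx))
      rwa [mul_inv_cancel_left] at this
  inv_mem' := by
    rintro a ⟨a1, a2, a3⟩
    refine ⟨fun x => ?_, fun x hx => ?_, fun x hx => ?_⟩
    · have h := M.inv_mem (a1 (a⁻¹ x))
      rwa [MulAut.apply_inv_self, mul_inv_rev, inv_inv] at h
    · have hx' : a⁻¹ x ∈ M := by
        have h := M.mul_mem hx (M.inv_mem (a1 (a⁻¹ x)))
        rwa [MulAut.apply_inv_self, mul_inv_rev, inv_inv, mul_inv_cancel_left] at h
      have h := Z.inv_mem (a2 _ hx')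
      rwa [MulAut.apply_inv_self, mul_inv_rev, inv_inv] at h
    · conv_lhs => rw [← a3 x hx]
      rw [MulAut.inv_apply_self]

theorem mem_stab3 {M Z : Subgroup D} {hZM : Z ≤ M} {a : MulAut D} :
    a ∈ stab3 M Z hZM ↔ (∀ x, x⁻¹ * a x ∈ M) ∧ (∀ x ∈ M, x⁻¹ * a x ∈ Z) ∧ ∀ x ∈ Z, a x = x := Iff.rfl

theorem isPGroup_stab3 [Finite D] [Fact p.Prime] (hD : IsPGroup p D) (M Z : Subgroup D) (hZM : Z ≤ M) :
    IsPGroup p (stab3 M Z hZM) := by
  haveI : Finite (MulAut D) :=
    Finite.of_injective (fun a : MulAut D => (a : D → D)) DFunLike.coe_injective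
  refine isPGroup_of_coprime_trivial fun a ha => Subtype.ext (MulEquiv.ext fun x => ?_)
  have hc : (orderOf (a : MulAut D)).Coprime p := by rwa [Subgroup.orderOf_coe]
  have hfix : ∀ y ∈ M, (a : MulAut D) y = y := fun y hy =>
    fix_of_step _ hc y (a.2.2.2 _ (a.2.2.1 y hy)) (hD _)
  exact fix_of_step _ hc x (hfix _ (a.2.1 x)) (hD _)

theorem conj_mem_stab3 {M Z : Subgroup D} {hZM : Z ≤ M} {a k : MulAut D}
    (hM : ∀ x, a x ∈ M ↔ x ∈ M) (hZ : ∀ x, a x ∈ Z ↔ x ∈ Z) (hk : k ∈ stab3 M Z hZM) :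
    a * k * a⁻¹ ∈ stab3 M Z hZM := by
  have e : ∀ x, x⁻¹ * (a * k * a⁻¹) x = a ((a⁻¹ x)⁻¹ * k (a⁻¹ x)) := fun x => by
    rw [MulAut.mul_apply, MulAut.mul_apply, map_mul, map_inv, MulAut.apply_inv_self]
  refine ⟨fun x => ?_, fun x hx => ?_, fun x hx => ?_⟩
  · rw [e, hM]; exact hk.1 _
  · rw [e, hZ]
    exact hk.2.1 _ ((hM _).1 (by rwa [MulAut.apply_inv_self]))
  · rw [MulAut.mul_apply, MulAut.mul_apply, hk.2.2 _ ((hZ _).1 (by rwa [MulAut.apply_inv_self])),
      MulAut.apply_inv_self]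

theorem iff_of_forall [Finite D] {M : Subgroup D} {a : MulAut D} (h : ∀ x ∈ M, a x ∈ M) (x : D) :
    a x ∈ M ↔ x ∈ M := by
  refine ⟨fun hx => ?_, h x⟩
  have hb : Function.Surjective (fun y : M => (⟨a y, h _ y.2⟩ : M)) := Finite.surjective_of_injective
    fun y z hyz => Subtype.ext (a.injective (congrArg Subtype.val hyz))
  obtain ⟨y, hy⟩ := hb ⟨a x, hx⟩
  exact a.injective (congrArg Subtype.val hy) ▸ y.2

end Stab

variable {Ω : Type*} [Group Ω] {S : Subgroup Ω} {K : Type*} [Field K] {F : FusionSystem S}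
  {p : ℕ}

/-- A subgroup in coordinates, as a subgroup of the system. -/
noncomputable def eR (e : U4 K ≃* ↥S) (R : Subgroup (U4 K)) : R ≃* sub e R :=
  Subgroup.equivMapOfInjective R (S.subtype.comp e.toMonoidHom)
    (Subtype.val_injective.comp e.injective)

theorem coe_eR (e : U4 K ≃* ↥S) {R : Subgroup (U4 K)} (a : R) : (eR e R a : Ω) = el e (a : U4 K) :=
  rfl

/-- The automorphisms induced by the system, in coordinates. -/
noncomputable def autC (F : FusionSystem S) (e : U4 K ≃* ↥S) (R : Subgroup (U4 K)) :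
    Subgroup (MulAut R) :=
  (F.autGroup (sub e R)).comap (MulAut.congr (eR e R)).toMonoidHom

/-- The automorphisms of the whole group in the system, in coordinates. -/
noncomputable def autS (F : FusionSystem S) (e : U4 K ≃* ↥S) : Subgroup (MulAut (U4 K)) :=
  (F.autGroup S).comap (MulAut.congr e).toMonoidHom

variable (e : U4 K ≃* ↥S)

theorem congr_apply {R : Subgroup (U4 K)} (α : MulAut R) (a : R) :
    ((MulAut.congr (eR e R) α) (eR e R a) : Ω) = el e ((α a : R) : U4 K) := by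
  simp [MulAut.congr, coe_eR]

/-- The automorphism groups agree. -/
noncomputable def autEquiv (R : Subgroup (U4 K)) : autC F e R ≃* F.autGroup (sub e R) where
  toFun α := ⟨MulAut.congr (eR e R) α, α.2⟩
  invFun β := ⟨(MulAut.congr (eR e R)).symm β, by
    show MulAut.congr (eR e R) ((MulAut.congr (eR e R)).symm β) ∈ F.autGroup (sub e R)
    rw [MulEquiv.apply_symm_apply]; exact β.2⟩
  left_inv α := Subtype.ext ((MulAut.congr (eR e R)).symm_apply_apply _)
  right_inv β := Subtype.ext ((MulAut.congr (eR e R)).apply_symm_apply _)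
  map_mul' α β := Subtype.ext (map_mul _ _ _)

theorem normal_iff {R : Subgroup (U4 K)} {g : U4 K} :
    el e g ∈ Subgroup.normalizer (sub e R : Set Ω) ↔ g ∈ Subgroup.normalizer (R : Set (U4 K)) := by
  simp only [Subgroup.mem_normalizer_iff]
  constructor
  · intro h a
    rw [← el_mem_sub e, h, conj_el, el_mem_sub]
  · intro h x
    by_cases hx : x ∈ S
    · obtain ⟨a, rfl⟩ := exists_el e hx
      rw [conj_el, el_mem_sub, el_mem_sub]; exact h a
    · refine iff_of_false (fun h' => hx (sub_le e R h')) fun h' => hx ?_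
      have := S.mul_mem (S.mul_mem (S.inv_mem (el_mem e g)) (sub_le e R h')) (el_mem e g)
      simpa [mul_assoc] using this

theorem induced_iff {R : Subgroup (U4 K)} {α : MulAut R} :
    MulAut.congr (eR e R) α ∈ autInducedBy S (sub e R) ↔ α ∈ autInducedBy ⊤ R := by
  rw [mem_autInducedBy, mem_autInducedBy]
  constructor
  · rintro ⟨x, hx, h⟩
    obtain ⟨g, rfl⟩ := exists_el e hx
    refine ⟨g, trivial, fun a => ?_⟩
    have h' := h (eR e R a)
    rw [congr_apply, coe_eR, conj_el, el_inj] at h'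
    exact h'
  · rintro ⟨g, -, h⟩
    refine ⟨el e g, el_mem e g, fun x => ?_⟩
    obtain ⟨a, rfl⟩ := (eR e R).surjective x
    rw [congr_apply, coe_eR, conj_el, h]

theorem induced_le_autC (R : Subgroup (U4 K)) : autInducedBy ⊤ R ≤ autC F e R := fun _ hα =>
  autInducedBy_le_autGroup (sub_le e R) ((induced_iff e).2 hα)

/-- Conjugation by a normalising element, in coordinates. -/
noncomputable def cjC (F : FusionSystem S) {R : Subgroup (U4 K)} (g : U4 K)
    (hg : g ∈ Subgroup.normalizer (R : Set (U4 K))) : autC F e R :=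
  ⟨conjAut R g hg, induced_le_autC e R (mem_autInducedBy.2 ⟨g, trivial, fun _ => rfl⟩)⟩

variable [Finite K] [Finite S] [hp : Fact p.Prime]

instance (R : Subgroup (U4 K)) : Finite (MulAut R) :=
  Finite.of_injective (fun a : MulAut R => (a : R → R)) DFunLike.coe_injective

omit [Finite S] in
theorem isPGroup_U4 (hS : IsPGroup p S) (e : U4 K ≃* ↥S) : IsPGroup p (U4 K) :=
  hS.of_equiv e.symm

variable (hS : IsPGroup p S) (hF : F.IsSaturated p)

include hS hF

theorem exists_sylow_induced {R : Subgroup (U4 K)} (hn : F.IsFullyNormalized (sub e R)) :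
    ∃ P : Sylow p (autC F e R),
      (P : Subgroup (autC F e R)) = (autInducedBy ⊤ R).subgroupOf (autC F e R) := by
  obtain ⟨-, P, hP⟩ := isFullyAutomized_of_isFullyNormalized hS hF hn
  refine ⟨P.comapOfInjective (autEquiv e R).toMonoidHom (autEquiv e R).injective
    (by rw [MonoidHom.range_eq_top.2 (autEquiv e R).surjective]; exact le_top), ?_⟩
  show (P : Subgroup (F.autGroup (sub e R))).comap _ = _
  rw [hP]
  ext α
  exact induced_iff e

omit hS hF in
theorem not_normal {R : Subgroup (U4 K)} (hE : F.IsEssential p (sub e R))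
    (P : Sylow p (autC F e R)) : ¬ (P : Subgroup (autC F e R)).Normal := fun hn => by
  let f := (autEquiv (F := F) e R)
  refine false_of_normal_sylow hE (P.mapSurjective (f := f.toMonoidHom) f.surjective) ?_
  exact hn.map f.toMonoidHom f.surjective

omit hF in
/-- An element stabilising an invariant series lies in the essential subgroup. -/
theorem mem_of_stab3 {R : Subgroup (U4 K)} (hE : F.IsEssential p (sub e R)) {M Z : Subgroup R}
    (hZM : Z ≤ M) (hM : ∀ α : autC F e R, ∀ x ∈ M, (α : MulAut R) x ∈ M)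
    (hZ : ∀ α : autC F e R, ∀ x ∈ Z, (α : MulAut R) x ∈ Z) {g : U4 K}
    (hg : g ∈ Subgroup.normalizer (R : Set (U4 K))) (h : conjAut R g hg ∈ stab3 M Z hZM) : g ∈ R := by
  let N : Subgroup (autC F e R) := (stab3 M Z hZM).subgroupOf (autC F e R)
  have hNn : N.Normal := ⟨fun k hk a => conj_mem_stab3 (hZM := hZM)
    (fun x => iff_of_forall (fun x hx => hM a x hx) x) (fun x => iff_of_forall (fun x hx => hZ a x hx) x) hk⟩
  have hNp : IsPGroup p N := (isPGroup_stab3 ((isPGroup_U4 hS e).to_subgroup R) _ _ hZM).comap_subtype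
  let N' : Subgroup (F.autGroup (sub e R)) := N.map (autEquiv e R).toMonoidHom
  have : N'.Normal := hNn.map _ (autEquiv e R).surjective
  refine (el_mem_sub e).1 (mem_of_radical hE.1 (isRadical_of_isEssential hS hE) N' (hNp.map _)
    (el_mem e g) ((normal_iff e).2 hg) fun a ha => ⟨cjC e F g hg, h, Subtype.ext ?_⟩)
  show MulAut.congr (eR e R) (conjAut R g hg) = _
  rw [ha]
  refine MulEquiv.ext fun x => Subtype.ext ?_
  obtain ⟨b, rfl⟩ := (eR e R).surjective x
  rw [congr_apply, conjAut_apply, conjAut_apply, coe_eR, conj_el]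

omit hF in
/-- A Sylow subgroup stabilising a series is the whole stabiliser. -/
theorem sylow_eq_stab3 {R : Subgroup (U4 K)} {M Z : Subgroup R} {hZM : Z ≤ M}
    (P : Sylow p (autC F e R)) (hP : ∀ α ∈ (P : Subgroup (autC F e R)), (α : MulAut R) ∈ stab3 M Z hZM) :
    (P : Subgroup (autC F e R)) = (stab3 M Z hZM).subgroupOf (autC F e R) :=
  (P.3 (isPGroup_stab3 ((isPGroup_U4 hS e).to_subgroup R) _ _ hZM).comap_subtype
    (fun α hα => hP α hα)).symm

omit [Finite K] [Finite S] hp hS hF in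
/-- A `p`-element normalising a Sylow subgroup lies in it. -/
theorem mem_sylow_of_normalizes {G : Type*} [Group G] [Finite G] [Fact p.Prime] (P : Sylow p G) {g : G}
    (hg : ∃ k, g ^ p ^ k = 1) (hn : ∀ a, a ∈ (P : Subgroup G) → g * a * g⁻¹ ∈ (P : Subgroup G)) :
    g ∈ (P : Subgroup G) := by
  have hz : Subgroup.zpowers g ≤ Subgroup.normalizer ((P : Subgroup G) : Set G) := by
    refine Subgroup.zpowers_le.2 (Subgroup.mem_normalizer_iff.2 fun a => ⟨hn a, fun ha => ?_⟩)
    obtain ⟨k, hk⟩ := hg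
    have key : ∀ j : ℕ, ∀ b ∈ (P : Subgroup G), g ^ j * b * (g ^ j)⁻¹ ∈ (P : Subgroup G) := by
      intro j
      induction j with
      | zero => intro b hb; simpa using hb
      | succ j ih =>
        intro b hb
        have := hn _ (ih b hb)
        simpa [pow_succ', mul_assoc] using this
    have h' := key (p ^ k - 1) _ ha
    have e : g ^ (p ^ k - 1) * g = 1 := by
      rw [← pow_succ, Nat.sub_add_cancel (Nat.one_le_pow _ _ (Fact.out : p.Prime).pos), hk]
    have e2 : (g ^ (p ^ k - 1)) = g⁻¹ := eq_inv_of_mul_eq_one_left e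
    rw [e2] at h'
    simpa [mul_assoc] using h'
  obtain ⟨k, hk⟩ := hg
  obtain ⟨j, -, hj⟩ := (Nat.dvd_prime_pow Fact.out).1 (orderOf_dvd_of_pow_eq_one hk)
  have hp' : IsPGroup p ↥((P : Subgroup G) ⊔ Subgroup.zpowers g) :=
    IsPGroup.to_sup_of_normal_left' P.2 (IsPGroup.of_card (n := j) (by rw [Nat.card_zpowers, hj])) hz
  obtain ⟨Q, hQ⟩ := hp'.exists_le_sylow
  have : (Q : Subgroup G) = P := P.3 Q.2 (le_sup_left.trans hQ)
  exact this ▸ hQ (Subgroup.mem_sup_right (Subgroup.mem_zpowers g))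

/-- An automorphism normalising the induced Sylow subgroup extends to the whole group. -/
theorem exists_extend {R : Subgroup (U4 K)} (hn : F.IsFullyNormalized (sub e R))
    (hR : ∀ g, g ∈ Subgroup.normalizer (R : Set (U4 K))) (α : autC F e R)
    (hα : ∀ g : autC F e R, (g : MulAut R) ∈ autInducedBy ⊤ R →
      ((α * g * α⁻¹ : autC F e R) : MulAut R) ∈ autInducedBy ⊤ R) :
    ∃ β ∈ autS F e, ∀ a : R, β (a : U4 K) = ((α : MulAut R) a : U4 K) := by
  set γ := (autEquiv (F := F) e R α)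
  obtain ⟨ψ, hψ, hψx⟩ := (isReceptive_of_isFullyNormalized hS hF hn).2 (sub e R) (autHom γ.1)
    (autGroup_hom_mem (sub_le e R) γ.2) (range_autHom _)
  have hle : S ≤ extender S (sub e R) (autHom γ.1) := by
    intro x hx
    obtain ⟨g, rfl⟩ := exists_el e hx
    obtain ⟨h, -, hh⟩ := mem_autInducedBy.1 (hα (cjC e F g (hR g))
      (mem_autInducedBy.2 ⟨g, trivial, fun _ => rfl⟩))
    refine Subgroup.subset_closure ⟨hx, (normal_iff e).2 (hR g), el e h, el_mem e h, fun y hy => ?_⟩
    obtain ⟨b, rfl⟩ := (eR e R).surjective y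
    have e1 : (⟨el e g * (eR e R b : Ω) * (el e g)⁻¹, hy⟩ : sub e R) = eR e R (conjAut R g (hR g) b) :=
      Subtype.ext (by
        show el e g * el e (b : U4 K) * (el e g)⁻¹ = el e ((conjAut R g (hR g) b : R) : U4 K)
        rw [conj_el, conjAut_apply])
    rw [e1]
    show ((MulAut.congr (eR e R) (α : MulAut R)) (eR e R (conjAut R g (hR g) b)) : Ω) =
      el e h * ((MulAut.congr (eR e R) (α : MulAut R)) (eR e R b) : Ω) * (el e h)⁻¹
    rw [congr_apply, congr_apply, conj_el]
    refine congrArg (el e) ?_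
    have h2 := hh ((α : MulAut R) b)
    rw [← h2]
    simp [cjC]
  obtain ⟨β, hβ, hβv⟩ := exists_aut_of_hom (restrict_mem hψ hle) fun x => val_mem hψ _
  refine ⟨(MulAut.congr e).symm β, ?_, fun a => ?_⟩
  · show MulAut.congr e ((MulAut.congr e).symm β) ∈ F.autGroup S
    rwa [MulEquiv.apply_symm_apply]
  · show e.symm (β (e (a : U4 K))) = _
    rw [MulEquiv.symm_apply_eq]
    refine Subtype.ext ?_
    rw [hβv, MonoidHom.comp_apply]
    show ψ _ = el e (((α : MulAut R) a : R) : U4 K)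
    rw [← congr_apply e]
    exact hψx _ (eR e R a).2 _

omit hS hF in
/-- An automorphism of the whole group preserving a subgroup restricts to it. -/
theorem exists_restrict {R : Subgroup (U4 K)} {β : MulAut (U4 K)} (hβ : β ∈ autS F e)
    (hR : ∀ a ∈ R, β a ∈ R) : ∃ α : autC F e R, ∀ a : R, ((α : MulAut R) a : U4 K) = β a := by
  have : Finite (sub e R) := finite_of_le (sub_le e R)
  have hb : ∀ a : U4 K, (((MulAut.congr e) β) (e a) : Ω) = el e (β a) := fun a => by
    simp [MulAut.congr, el]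
  obtain ⟨γ, hγ, hγv⟩ := exists_aut_of_hom
    (restrict_mem (autGroup_hom_mem le_rfl hβ) (sub_le e R)) fun x => by
    obtain ⟨a, ha, hx⟩ := (mem_sub e).1 x.2
    refine (mem_sub e).2 ⟨β a, hR a ha, ?_⟩
    rw [← hb a]
    show _ = ((MulAut.congr e β) ⟨(x : Ω), _⟩ : Ω)
    congr 3
    exact Subtype.ext hx
  refine ⟨(autEquiv e R).symm ⟨γ, hγ⟩, fun a => (el_inj e).1 ?_⟩
  rw [← congr_apply e]
  show ((MulAut.congr (eR e R) ((MulAut.congr (eR e R)).symm γ)) (eR e R a) : Ω) = _
  rw [MulEquiv.apply_symm_apply, hγv]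
  exact hb a

end Cfsg.Agent.Lib.SpFourExotic.Odd
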