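import Cfsg.Agent.Lib.SpFourExotic.Odd.Essential

/-!
The core in coordinates, and the essential subgroups that exclude each other when it is nontrivial.
-/

set_option autoImplicit false

namespace Cfsg.Agent.Lib.SpFourExotic.Odd

open Cfsg Cfsg.FusionSystem Cfsg.Agent.Lib.Fusion
open scoped Pointwise

variable {Ω : Type*} [Group Ω] {S : Subgroup Ω} {K : Type*} [Field K] {F : FusionSystem S}
  {p : ℕ} {R : Subgroup (U4 K)} (h2 : (2 : K) ≠ 0)

/-- The core in coordinates. -/
def coreC (F : FusionSystem S) (e : U4 K ≃* ↥S) : Subgroup (U4 K) :=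
  F.core.comap (S.subtype.comp e.toMonoidHom)

theorem mem_coreC {e : U4 K ≃* ↥S} {a : U4 K} : a ∈ coreC F e ↔ el e a ∈ F.core := Iff.rfl

variable (e : U4 K ≃* ↥S) [Finite K] [Finite S] [hp : Fact p.Prime] (hS : IsPGroup p S)
  (hF : F.IsSaturated p)

include hS hF

omit [Finite K] in
theorem coreC_invariant (hE : F.IsEssential p (sub e R)) :
    coreC F e ≤ R ∧ ∀ α : autC F e R, ∀ a : R, (a : U4 K) ∈ coreC F e →
      (((α : MulAut R) a : R) : U4 K) ∈ coreC F e := by
  obtain ⟨hle, hmap⟩ := (isNormal_iff_aut hS hF).1 (isNormal_core (F := F)) _ (Or.inr hE)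
  refine ⟨fun a ha => (el_mem_sub e).1 (hle (mem_coreC.1 ha)), fun α a ha => ?_⟩
  have h := (hmap _ α.2).le ⟨eR e R a, (show (eR e R a : Ω) ∈ F.core from ha), rfl⟩
  change (((MulAut.congr (eR e R) (α : MulAut R)) (eR e R a) : sub e R) : Ω) ∈ F.core at h
  rwa [congr_apply] at h

omit [Finite K] in
theorem coreC_normal (g : U4 K) {a : U4 K} (ha : a ∈ coreC F e) : g * a * g⁻¹ ∈ coreC F e := by
  have hn : el e g ∈ Subgroup.normalizer (S : Set Ω) := Subgroup.le_normalizer (el_mem e g)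
  obtain ⟨hle, hmap⟩ := (isNormal_iff_aut hS hF).1 (isNormal_core (F := F)) _ (Or.inl rfl)
  have h := (hmap (conjAut S (el e g) hn)
    (autInducedBy_le_autGroup le_rfl (mem_autInducedBy.2 ⟨el e g, el_mem e g, fun _ => rfl⟩))).le
    ⟨⟨el e a, el_mem e a⟩, (show el e a ∈ F.core from ha), rfl⟩
  change el e g * el e a * (el e g)⁻¹ ∈ F.core at h
  rwa [conj_el] at h

omit [Finite K] in
theorem coreC_comm (g : U4 K) {a : U4 K} (ha : a ∈ coreC F e) : a * g * a⁻¹ * g⁻¹ ∈ coreC F e := by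
  have := (coreC F e).mul_mem ha (coreC_normal e hS hF g ((coreC F e).inv_mem ha))
  rwa [← mul_assoc, ← mul_assoc] at this

include h2

omit [Finite K] in
/-- The core lies in the centre, or it has a middle element outside the centre. -/
theorem coreC_cases : coreC F e ≤ zed K ∨ ∃ a ∈ coreC F e, a ∈ mid K ∧ a.x ≠ 0 := by
  by_cases h : coreC F e ≤ zed K
  · exact Or.inl h
  refine Or.inr ?_
  obtain ⟨a, ha, haz⟩ := SetLike.not_le_iff_exists.1 h
  by_cases ht : a.t = 0
  · by_cases hu : a.u = 0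
    · exact ⟨a, ha, mem_mid.2 ⟨ht, hu⟩, fun hx => haz ⟨ht, hu, hx⟩⟩
    · exact ⟨_, coreC_comm e hS hF ⟨1, 0, 0, 0⟩ ha, comm_mid _ _, by rw [comm_x]; simpa using hu⟩
  · exact ⟨_, coreC_comm e hS hF ⟨0, 1, 0, 0⟩ ha, comm_mid _ _, by rw [comm_x]; simpa using ht⟩

omit [Finite K] in
theorem coreC_axis (hcore : F.core ≠ ⊥) : ∃ w : K, w ≠ 0 ∧ (⟨0, 0, 0, w⟩ : U4 K) ∈ coreC F e := by
  obtain ⟨x, hx, hx1⟩ := F.core.bot_or_exists_ne_one.resolve_left hcore
  obtain ⟨a, rfl⟩ := exists_el e (core_le F hx)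
  rcases coreC_cases h2 e hS hF with h | ⟨b, hb, hbm, hbx⟩
  · obtain ⟨a1, a2, a3⟩ := mem_zed.1 (h (mem_coreC.2 hx))
    refine ⟨a.y, fun hy => hx1 ?_, ?_⟩
    · rw [show a = 1 from U4.ext a1 a2 a3 hy]; exact el_one e
    · rwa [show (⟨0, 0, 0, a.y⟩ : U4 K) = a from U4.ext a1.symm a2.symm a3.symm rfl, mem_coreC]
  · refine ⟨2 * b.x, mul_ne_zero h2 hbx, ?_⟩
    have h := (coreC F e).inv_mem (coreC_comm e hS hF ⟨1, 0, 0, 0⟩ hb)
    have e' := comm_y_mid h2 (a := (⟨1, 0, 0, 0⟩ : U4 K)) hbm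
    rw [mul_one] at e'
    rw [← e']
    simpa [mul_assoc] using h

/-- A line forces the core into the centre, unless the core leaves the middle subgroup. -/
theorem line_core {l : K} (hE : F.IsEssential p (sub e (line l))) (hm : coreC F e ≤ mid K) :
    coreC F e ≤ zed K := by
  refine (coreC_cases h2 e hS hF).resolve_right ?_
  rintro ⟨a, ha, hamid, hax⟩
  refine false_of_mid_invariant h2 e hS hF hE (mid_le_line l) (fun α x hx => ?_)
    fun α => line_zed_invariant h2 l (α : MulAut (line l))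
  obtain ⟨hle, hinv⟩ := coreC_invariant e hS hF hE
  set a' : line l := (α : MulAut (line l)) ⟨a, hle ha⟩ with ha'
  have ha'm : (a' : U4 K) ∈ mid K := hm (hinv α _ ha)
  have ha'x : (a' : U4 K).x ≠ 0 := fun h0 => hax (by
    have h' : a' ∈ (zed K).subgroupOf (line l) := ⟨(mem_mid.1 ha'm).1, (mem_mid.1 ha'm).2, h0⟩
    exact ((iff_of_forall (line_zed_invariant h2 l (α : MulAut (line l))) _).1 h').2.2)
  have hc : ((α : MulAut (line l)) x) * a' = a' * (α : MulAut (line l)) x := by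
    rw [ha', ← map_mul, ← map_mul]
    exact congrArg _ (Subtype.ext (mid_comm h2 (Subgroup.mem_subgroupOf.1 hx) hamid))
  have h := ((commute_iff h2).1 (congrArg Subtype.val hc)).2
  obtain ⟨m1, m2⟩ := mem_mid.1 ha'm
  rw [Subgroup.mem_subgroupOf]
  refine line_mid ((α : MulAut (line l)) x).2 ?_
  simpa [m1, m2, h2, ha'x, eq_comm] using h

omit [Finite K] in
theorem core_le_mid_of_rad1 {l : K} (h1 : F.IsEssential p (sub e (rad1 K)))
    (hl : F.IsEssential p (sub e (line l))) : coreC F e ≤ mid K := fun a ha =>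
  line_mid ((coreC_invariant e hS hF hl).1 ha) ((coreC_invariant e hS hF h1).1 ha)

omit [Finite K] in
theorem core_le_mid_of_lines {l l' : K} (hne : l ≠ l') (h1 : F.IsEssential p (sub e (line l)))
    (h2' : F.IsEssential p (sub e (line l'))) : coreC F e ≤ mid K := fun a ha => by
  have e1 := mem_line.1 ((coreC_invariant e hS hF h1).1 ha)
  have e2 := mem_line.1 ((coreC_invariant e hS hF h2').1 ha)
  refine line_mid ((coreC_invariant e hS hF h1).1 ha) ?_
  have : (l - l') * a.t = 0 := by rw [sub_mul, ← e1, ← e2, sub_self]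
  exact (mul_eq_zero.1 this).resolve_left (sub_ne_zero.2 hne)

omit h2 in
/-- The abelian subgroups of rank two are not essential. -/
theorem false_of_ab (h2 : (2 : K) ≠ 0) (hcore : F.core ≠ ⊥) {l m : K}
    (hE : F.IsEssential p (sub e (ab h2 l m))) : False := by
  set R := ab h2 l m
  obtain ⟨hle, hinv⟩ := coreC_invariant e hS hF hE
  have hzed : coreC F e ≤ zed K := by
    refine (coreC_cases h2 e hS hF).resolve_right ?_
    rintro ⟨a, ha, hamid, hax⟩
    have := (hle ha).2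
    rw [(mem_mid.1 hamid).1] at this
    simp at this
    exact hax this
  obtain ⟨w, hw, hwc⟩ := coreC_axis h2 e hS hF hcore
  let Z : Set R := {x | (x : U4 K) ∈ zed K}
  let M : Subgroup R := (zed K).subgroupOf R
  -- conjugation on the subgroup
  have hconj : ∀ g, g ∈ Subgroup.normalizer (R : Set (U4 K)) → ∀ b ∈ R,
      g * b * g⁻¹ = b * ⟨0, 0, 0, 2 * b.t * (m * g.t - xh l g)⟩ := by
    intro g hg b hb
    have hgl : g ∈ line l := by
      have h1 := (Subgroup.mem_normalizer_iff.1 hg _).1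
        (show (⟨1, l, m + l * (1 * 1) / 2, 0⟩ : U4 K) ∈ R from ⟨by simp, by simp⟩)
      obtain ⟨-, hx⟩ := h1
      rw [mem_line]
      simp at hx
      linear_combination -hx
    rw [line_form h2 hgl hb.1, mul_assoc _ _ g⁻¹,
      zed_central (show (⟨0, 0, 0, _⟩ : U4 K) ∈ zed K from ⟨rfl, rfl, rfl⟩) g⁻¹, ← mul_assoc,
      mul_inv_cancel_right]
    congr 2
    rw [show xh l b = m * b.t by simp [xh, hb.2]]
    ring
  have hxnorm : ∀ x : K, (⟨0, 0, x, 0⟩ : U4 K) ∈ Subgroup.normalizer (R : Set (U4 K)) := by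
    have key : ∀ g ∈ mid K, ∀ b ∈ R, g * b * g⁻¹ ∈ R := fun g hg b hb => by
      have := R.mul_mem hb (zed_le_ab h2 l m (conj_comm_mid h2 hg b))
      rwa [mul_inv_cancel_left] at this
    intro x
    have hx : (⟨0, 0, x, 0⟩ : U4 K) ∈ mid K := mem_mid.2 ⟨rfl, rfl⟩
    refine Subgroup.mem_normalizer_iff.2 fun b => ⟨key _ hx b, fun hb => ?_⟩
    simpa [mul_assoc] using key _ ((mid K).inv_mem hx) _ hb
  obtain ⟨P, hP⟩ := exists_sylow_induced e hS hF hE.2.1
  have hZM : M ≤ M := le_rfl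
  have hPs : ∀ α ∈ (P : Subgroup (autC F e R)), (α : MulAut R) ∈ stab3 M M hZM := by
    intro α hα
    rw [hP, Subgroup.mem_subgroupOf, mem_autInducedBy_normalizer] at hα
    obtain ⟨g, hg, -, hgα⟩ := hα
    rw [hgα]
    have hm : ∀ x : R, x⁻¹ * conjAut R g hg x ∈ M := fun x => by
      rw [Subgroup.mem_subgroupOf, Subgroup.coe_mul, Subgroup.coe_inv, conjAut_apply, hconj g hg _ x.2,
        inv_mul_cancel_left]
      exact ⟨rfl, rfl, rfl⟩
    refine ⟨hm, fun x _ => hm x, fun x hx => Subtype.ext ?_⟩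
    rw [conjAut_apply]
    exact conj_zed h2 g (Subgroup.mem_subgroupOf.1 hx)
  have heq := sylow_eq_stab3 e hS P hPs
  have hfixP : ∀ a ∈ (P : Subgroup (autC F e R)), ∀ z ∈ Z, a • z = z := fun a ha z hz =>
    (hPs a ha).2.2 z hz
  -- a fixed point of a nontrivial element lies in the centre
  have hfix : ∀ a ∈ (P : Subgroup (autC F e R)), a ≠ 1 → ∀ z : R, a • z = z → z ∈ Z := by
    intro a ha ha1 z hz
    rw [hP, Subgroup.mem_subgroupOf, mem_autInducedBy_normalizer] at ha
    obtain ⟨g, hg, -, hgα⟩ := ha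
    have h := congrArg Subtype.val hz
    change (((a : MulAut R) z : R) : U4 K) = z at h
    rw [hgα, conjAut_apply, hconj g hg _ z.2] at h
    have h' := congrArg U4.y (mul_eq_left.1 h)
    simp only [U4.one_y, mul_eq_zero, h2, false_or] at h'
    rcases h' with h' | h'
    · show (z : U4 K) ∈ zed K
      exact ⟨h', by simp [z.2.1, h'], by simp [z.2.2, h']⟩
    · refine absurd (Subtype.ext (MulEquiv.ext fun b => Subtype.ext ?_)) ha1
      rw [hgα, conjAut_apply, hconj g hg _ b.2, h', mul_zero]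
      exact mul_one _
  have hstab : ∀ g : autC F e R, (∃ k, g ^ p ^ k = 1) → g • Z = Z → g ∈ (P : Subgroup (autC F e R)) := by
    intro g hgp hgZ
    have h1 : ∀ x ∈ M, (g : MulAut R) x ∈ M := fun x hx => by
      have := Set.smul_mem_smul_set (a := g) (show x ∈ Z from hx)
      rwa [hgZ] at this
    refine mem_sylow_of_normalizes P hgp fun a ha => ?_
    rw [heq, Subgroup.mem_subgroupOf] at ha ⊢
    exact conj_mem_stab3 (fun x => iff_of_forall h1 x) (fun x => iff_of_forall h1 x) ha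
  -- some image of the centre differs from it
  obtain ⟨g1, hg1⟩ : ∃ g : autC F e R, g • Z ≠ Z := by
    by_contra hall
    push Not at hall
    refine not_normal e hE P ?_
    rw [heq]
    have hi : ∀ (g : autC F e R) (x : R), x ∈ M → (g : MulAut R) x ∈ M := fun g x hx => by
      have := Set.smul_mem_smul_set (a := g) (show x ∈ Z from hx)
      rwa [hall g] at this
    exact ⟨fun k hk a => conj_mem_stab3 (hZM := hZM) (fun x => iff_of_forall (hi a) x) (fun x => iff_of_forall (hi a) x) hk⟩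
  obtain ⟨g, hg, hmax⟩ := Set.exists_max_image {g : autC F e R | g • Z ≠ Z}
    (fun g => (Z ∩ g • Z).ncard) (Set.toFinite _) ⟨g1, hg1⟩
  -- an element outside
  obtain ⟨v, hv, hv0⟩ : ∃ v ∈ g • Z, v ∉ Z := by
    by_contra hall
    push Not at hall
    exact hg (Set.eq_of_subset_of_ncard_le hall (Set.ncard_smul_set g _).ge (Set.toFinite _))
  have hvt : (v : U4 K).t ≠ 0 := fun h0 => hv0 (by
    show (v : U4 K) ∈ zed K
    exact ⟨h0, by simp [v.2.1, h0], by simp [v.2.2, h0]⟩)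
  set x : K := -w / (2 * (v : U4 K).t) with hx
  set a : autC F e R := cjC e F ⟨0, 0, x, 0⟩ (hxnorm x) with ha
  have haP : a ∈ (P : Subgroup (autC F e R)) := by
    rw [hP, Subgroup.mem_subgroupOf, mem_autInducedBy]
    exact ⟨⟨0, 0, x, 0⟩, trivial, fun _ => rfl⟩
  have hwR : (⟨0, 0, 0, w⟩ : U4 K) ∈ R := hle hwc
  have hwg : ∀ g : autC F e R, (⟨_, hwR⟩ : R) ∈ g • Z := fun g =>
    Set.mem_smul_set_iff_inv_smul_mem.2 (hzed (hinv g⁻¹ ⟨_, hwR⟩ hwc))
  have hav : a • v = v * ⟨_, hwR⟩ := by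
    refine Subtype.ext ?_
    show (⟨0, 0, x, 0⟩ : U4 K) * (v : U4 K) * (⟨0, 0, x, 0⟩ : U4 K)⁻¹ = (v : U4 K) * ⟨0, 0, 0, w⟩
    rw [hconj _ (hxnorm x) _ v.2]
    congr 2
    simp [xh, hx]
    field_simp
  have hav' : a • v ∈ g • Z := by
    rw [hav, Set.mem_smul_set_iff_inv_smul_mem, smul_mul']
    exact (zed K).mul_mem (Set.mem_smul_set_iff_inv_smul_mem.1 hv)
      (Set.mem_smul_set_iff_inv_smul_mem.1 (hwg g))
  have ha1 : a ≠ 1 := fun h => hw (by
    rw [h, one_smul, left_eq_mul, Subtype.ext_iff] at hav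
    exact congrArg U4.y hav)
  set k := g⁻¹ * a * g with hk
  by_cases hkZ : k • Z = Z
  · obtain ⟨j, hj⟩ := P.2 ⟨a, haP⟩
    have hkp : k ∈ (P : Subgroup (autC F e R)) := hstab k ⟨j, by
      have := congrArg Subtype.val hj
      simp only [SubmonoidClass.coe_pow, OneMemClass.coe_one] at this
      rw [hk, show g⁻¹ * a * g = g⁻¹ * a * g⁻¹⁻¹ by group, conj_pow, this]
      group⟩ hkZ
    refine hg (Set.eq_of_subset_of_ncard_le ?_ (Set.ncard_smul_set g _).ge (Set.toFinite _))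
    rintro _ ⟨z, hz, rfl⟩
    refine hfix a haP ha1 _ ?_
    rw [← mul_smul, show a * g = g * k by rw [hk]; group, mul_smul, hfixP k hkp z hz]
  · have hsub : insert (a • v) (Z ∩ g • Z) ⊆ (a * g) • Z ∩ g • Z := by
      refine Set.insert_subset ⟨?_, hav'⟩ fun z hz => ⟨?_, hz.2⟩
      · rw [mul_smul]; exact Set.smul_mem_smul_set hv
      · rw [mul_smul, ← hfixP a haP z hz.1]
        exact Set.smul_mem_smul_set hz.2
    have hnot : a • v ∉ Z ∩ g • Z := fun h => hv0 (by
      have := hfixP a⁻¹ (inv_mem haP) _ h.1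
      rw [inv_smul_smul] at this
      exact this.symm ▸ h.1)
    have h1 := Set.ncard_le_ncard hsub (Set.toFinite _)
    rw [Set.ncard_insert_of_notMem hnot (Set.toFinite _)] at h1
    have h2' := hmax k hkZ
    have e' : (Z ∩ k • Z).ncard = ((a * g) • Z ∩ g • Z).ncard := by
      rw [← Set.ncard_smul_set g, Set.smul_set_inter, ← mul_smul, hk, Set.inter_comm]
      congr 3
      group
    omega

end Cfsg.Agent.Lib.SpFourExotic.Odd
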