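import Cfsg.Agent.Lib.SpFourExotic.Odd.Torus

/-!
Independence of the members inside the complement, and the numerical contradiction.
-/

set_option autoImplicit false

namespace Cfsg.Agent.Lib.SpFourExotic.Odd

open scoped Pointwise

variable {K : Type*} [Field K] {p : ℕ} {G : Type*} [Group G] [DistribMulAction G (K × K × K)]

namespace RootSetting

namespace MaxPair

variable [Finite G] [Finite K] [hp : Fact p.Prime] {X : RootSetting (K := K) p G} (D : MaxPair X)
  (T : Torus X)

theorem fstSet_disjoint {Z Z' : Set (K × K × K)} (hZ : Z ∈ D.others) (hZ' : Z' ∈ D.others)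
    (hR : InR D T Z) (hR' : InR D T Z') {u : K} (hu : u ≠ 0) (h : u ∈ fstSet Z)
    (h' : u ∈ fstSet Z') : Z = Z' := by
  obtain ⟨v, hv, hvu⟩ := h
  obtain ⟨w, hw, rfl⟩ := h'
  obtain ⟨⟨⟨g, rfl⟩, hW, hx⟩, hne⟩ := hZ
  obtain ⟨⟨⟨g', rfl⟩, hW', hx'⟩, hne'⟩ := hZ'
  by_contra hgg
  have hsub : v - w ∈ D.W := by
    have e : v - w = (0, 0, zeta T v) - (0, 0, zeta T w) := by
      obtain ⟨v1, v2, v3⟩ := v
      obtain ⟨w1, w2, w3⟩ := w
      obtain rfl : v2 = 0 := hx _ hv
      obtain rfl : w2 = 0 := hx' _ hw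
      change v1 = w1 at hvu
      subst hvu
      simp [zeta]
    rw [e]
    exact W_sub D (hR v hv) (hR' w hw)
  have hv' : v ∈ g' • axisSet K := by
    simpa using img_add (fun _ h _ h' => axis_add h h') (hW' hsub) hw
  have := (D.W_axis ((Set.ext_iff.1 (D.pair hgg hW hW') v).1 ⟨hv, hv'⟩)).1
  exact hu (hvu ▸ this)

theorem sum_mem_of {A : Set (K × K × K)} {ι : Type*} (s : Finset ι) (f : ι → K × K × K)
    (h0 : (0 : K × K × K) ∈ A) (hA : ∀ v ∈ A, ∀ w ∈ A, v + w ∈ A) (hf : ∀ i ∈ s, f i ∈ A) :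
    ∑ i ∈ s, f i ∈ A := Finset.sum_induction f (· ∈ A) (fun a b ha hb => hA a ha b hb) h0 hf

include T in
/-- If all members lie in the complement, they are independent. -/
theorem pow_others_le (hall : ∀ Z ∈ D.others, InR D T Z) :
    (Nat.card K / D.W.ncard) ^ D.others.ncard ≤ Nat.card K := by
  classical
  haveI : Fintype D.others := Fintype.ofFinite _
  have hWpos : 0 < D.W.ncard := (Set.ncard_pos (Set.toFinite _)).2 ⟨_, D.w0_mem⟩
  -- the additive set containing all members
  let A : Set (K × K × K) := {v | v.2.1 = 0 ∧ ((0, 0, zeta T v) : K × K × K) ∈ D.W}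
  have hA0 : (0 : K × K × K) ∈ A := by
    refine ⟨rfl, ?_⟩
    simp only [zeta, Prod.snd_zero, Prod.fst_zero, eta_zero, sub_zero]
    exact ⟨zero_axis, Set.mem_smul_set_iff_inv_smul_mem.2 (by
      rw [show ((0, 0, 0) : K × K × K) = 0 from rfl, smul_zero]; exact zero_axis)⟩
  have hAadd : ∀ v ∈ A, ∀ w ∈ A, v + w ∈ A := fun v hv w hw => by
    refine ⟨by simp [hv.1, hw.1], ?_⟩
    have := W_add D hv.2 hw.2
    simpa [zeta_add] using this
  have hAneg : ∀ v ∈ A, -v ∈ A := fun v hv => by
    refine ⟨by simp [hv.1], ?_⟩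
    have h := zeta_add T v (-v)
    rw [add_neg_cancel] at h
    have h0 : zeta T (0 : K × K × K) = 0 := by simp [zeta, eta_zero]
    rw [h0] at h
    have := W_sub D hA0.2 hv.2
    rw [h0] at this
    simpa [eq_neg_of_add_eq_zero_right h.symm] using this
  have hmem : ∀ C ∈ D.others, ∀ v ∈ C, v ∈ A := fun C hC v hv => ⟨hC.1.2.2 v hv, hall C hC v hv⟩
  let f : (∀ Z : D.others, fstSet (Z : Set (K × K × K))) → K := fun c => ∑ Z, (c Z : K)
  have hf : Function.Injective f := by
    intro c c' h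
    choose a ha ha' using fun Z => (c Z).2
    choose b hb hb' using fun Z => (c' Z).2
    let d : D.others → K × K × K := fun Z => a Z - b Z
    have hd : ∀ Z : D.others, d Z ∈ (Z : Set (K × K × K)) := fun Z => by
      obtain ⟨⟨g, hg⟩, -⟩ := Z.2.1
      show a Z - b Z ∈ _
      have h1 := ha Z
      have h2 := hb Z
      rw [← hg] at h1 h2 ⊢
      exact img_sub (fun _ h _ h' => axis_sub h h') h1 h2
    have hsum : ∑ Z, d Z ∈ axisSet K := by
      refine ⟨?_, ?_⟩
      · rw [Prod.fst_sum]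
        simp only [d, Prod.fst_sub, ha', hb', Finset.sum_sub_distrib]
        exact sub_eq_zero.2 h
      · rw [Prod.snd_sum, Prod.fst_sum]
        exact Finset.sum_eq_zero fun Z _ => by simp [d, Z.2.1.2.2 _ (ha Z), Z.2.1.2.2 _ (hb Z)]
    funext B
    suffices hB : (d B).1 = 0 by
      simp only [d, Prod.fst_sub, ha', hb', sub_eq_zero] at hB
      exact Subtype.ext hB
    obtain ⟨k, hk, hkB⟩ := D.exists_H B.2.1
    have hkA : k⁻¹ • axisSet K ∈ D.others := by
      refine ⟨D.smul_mem (D.H.inv_mem hk) D.mem_axisSet, fun h' => B.2.2 ?_⟩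
      rw [← hkB]
      exact (inv_smul_eq_iff.1 h').symm
    have hkC : ∀ C : D.others, C ≠ B → k⁻¹ • (C : Set (K × K × K)) ∈ D.others := fun C hC => by
      refine ⟨D.smul_mem (D.H.inv_mem hk) C.2.1, fun h' => hC (Subtype.ext ?_)⟩
      rw [inv_smul_eq_iff] at h'
      rw [h', hkB]
    have hy : k⁻¹ • d B ∈ axisSet K := by
      rw [← Set.mem_smul_set_iff_inv_smul_mem, hkB]; exact hd B
    have e : k⁻¹ • d B = k⁻¹ • (∑ Z, d Z) + -∑ Z ∈ Finset.univ.erase B, k⁻¹ • d Z := by
      rw [← Finset.smul_sum, ← smul_neg, ← smul_add,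
        ← Finset.add_sum_erase _ _ (Finset.mem_univ B), add_neg_cancel_right]
    have hyA : k⁻¹ • d B ∈ A := by
      rw [e]
      exact hAadd _ (hmem _ hkA _ (Set.smul_mem_smul_set hsum)) _ (hAneg _
        (sum_mem_of _ _ hA0 hAadd fun C hC => hmem _ (hkC C (Finset.mem_erase.1 hC).1) _
          (Set.smul_mem_smul_set (hd C))))
    have hyW : k⁻¹ • d B ∈ D.W := by
      have h3 := hyA.2
      generalize k⁻¹ • d B = y at hy hyA h3 ⊢
      obtain ⟨y1, y2, y3⟩ := y
      obtain ⟨rfl, rfl⟩ : y1 = 0 ∧ y2 = 0 := hy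
      simpa [zeta, eta_zero] using h3
    have hfix := (D.mem_H.1 hk).1 _ hyW
    rw [smul_inv_smul] at hfix
    exact (D.W_axis (hfix ▸ hyW)).1
  have := Nat.card_le_card_of_injective f hf
  rw [Nat.card_pi] at this
  calc (Nat.card K / D.W.ncard) ^ D.others.ncard
      = ∏ Z : D.others, Nat.card (fstSet (Z : Set (K × K × K))) := by
        rw [Finset.prod_eq_pow_card (b := Nat.card K / D.W.ncard) fun Z _ => by
            rw [Nat.card_coe_set_eq, ← ncard_fstSet D Z.2, Nat.mul_div_cancel _ hWpos],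
          Finset.card_univ, ← Nat.card_eq_fintype_card, Nat.card_coe_set_eq]
    _ ≤ Nat.card K := this

theorem card_inR_mul_le :
    {Z ∈ D.others | InR D T Z}.ncard * (Nat.card K / D.W.ncard - 1) ≤ Nat.card K - 1 := by
  classical
  have hWpos : 0 < D.W.ncard := (Set.ncard_pos (Set.toFinite _)).2 ⟨_, D.w0_mem⟩
  let s : Set (Set (K × K × K)) := {Z ∈ D.others | InR D T Z}
  haveI : Fintype s := Fintype.ofFinite _
  have h := Nat.card_le_card_of_injective
    (fun a : Σ Z : s, {u : K // u ∈ fstSet (Z : Set (K × K × K)) ∧ u ≠ 0} => (⟨a.2.1, a.2.2.2⟩ : {u : K // u ≠ 0}))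
    (by
      rintro ⟨⟨Z, hZ⟩, u, hu⟩ ⟨⟨Z', hZ'⟩, u', hu'⟩ h
      obtain rfl : u = u' := congrArg Subtype.val h
      obtain rfl := fstSet_disjoint D T hZ.1 hZ'.1 hZ.2 hZ'.2 hu.2 hu.1 hu'.1
      rfl)
  haveI : Fintype K := Fintype.ofFinite K
  rw [Nat.card_sigma, Finset.sum_congr rfl (fun (Z : s) _ => show
      Nat.card {u : K // u ∈ fstSet (Z : Set (K × K × K)) ∧ u ≠ 0} = Nat.card K / D.W.ncard - 1 by
        rw [← ncard_fstSet D Z.2.1, Nat.mul_div_cancel _ hWpos,
          ← Set.ncard_sdiff_singleton_of_mem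
            (show (0 : K) ∈ fstSet (Z : Set (K × K × K)) from ⟨_, Z.2.1.1.2.1 D.w0_mem, rfl⟩),
          ← Nat.card_coe_set_eq]
        rfl),
    Finset.sum_const, Finset.card_univ, smul_eq_mul, ← Nat.card_eq_fintype_card,
    Nat.card_coe_set_eq, Nat.card_eq_fintype_card (α := {u : K // u ≠ 0}),
    Fintype.card_subtype_compl, Fintype.card_subtype_eq, ← Nat.card_eq_fintype_card] at h
  exact h

end MaxPair

/-- No linear group of this shape exists. -/
theorem false_of_torus [Finite G] [Finite K] [hp : Fact p.Prime] [CharP K p]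
    (X : RootSetting (K := K) p G) (hp2 : p ≠ 2) (T : Torus X) : False := by
  have : Fintype K := Fintype.ofFinite K
  have h2 : (2 : K) ≠ 0 := Ring.two_ne_zero (by rw [ringChar.eq K p]; exact hp2)
  obtain ⟨D⟩ := X.exists_maxPair h2
  obtain ⟨n, -, hn⟩ := FiniteField.card K p
  have hn' : Nat.card K = p ^ (n : ℕ) := by rw [Nat.card_eq_fintype_card, hn]
  obtain ⟨hdvd, hpm⟩ := D.succ_dvd ⟨n, hn'⟩
  have hp3 : 3 ≤ p := by
    have := hp.out.two_le
    omega
  obtain ⟨Z0, hZ0⟩ := D.others_nonempty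
  have hU := MaxPair.ncard_fstSet D hZ0
  set q := Nat.card K with hqdef
  set w := D.W.ncard with hwdef
  set P := q / w with hP
  -- the two factors of the order of the field
  have hwpos : 0 < w := (Set.ncard_pos (Set.toFinite _)).2 ⟨_, D.w0_mem⟩
  have hPU : (MaxPair.fstSet Z0).ncard = P := by
    rw [hP, ← hU, Nat.mul_div_cancel _ hwpos]
  rw [hPU] at hU
  have hw2 : 2 ≤ w := by
    refine (Set.one_lt_ncard (Set.toFinite _)).2 ⟨_, D.w0_mem, 0, ?_, ?_⟩
    · exact ⟨zero_axis, Set.mem_smul_set_iff_inv_smul_mem.2 (by rw [smul_zero]; exact zero_axis)⟩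
    · simp [X.w0_ne]
  have hP2 : 2 ≤ P := by
    obtain ⟨v, hv, hv0⟩ : ∃ v ∈ Z0, v.1 ≠ 0 := by
      by_contra hall
      push Not at hall
      obtain ⟨⟨⟨g, rfl⟩, hW, hx⟩, hne⟩ := hZ0
      exact hne (Set.eq_of_subset_of_ncard_le (fun v hv => ⟨hall v hv, hx v hv⟩)
        (Set.ncard_smul_set g _).ge (Set.toFinite _))
    rw [← hPU]
    exact (Set.one_lt_ncard (Set.toFinite _)).2
      ⟨v.1, ⟨v, hv, rfl⟩, 0, ⟨_, hZ0.1.2.1 D.w0_mem, rfl⟩, hv0⟩
  have hw3 : 3 ≤ w := by
    obtain ⟨i, -, hi⟩ := (Nat.dvd_prime_pow hp.out).1 (hn' ▸ ⟨P, by rw [← hU, mul_comm]⟩ : w ∣ p ^ (n : ℕ))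
    rcases Nat.eq_zero_or_pos i with rfl | hi0
    · rw [pow_zero] at hi; omega
    · exact hi ▸ hp3.trans (Nat.le_self_pow hi0.ne' p)
  have hP3 : 3 ≤ P ∧ Odd P := by
    obtain ⟨i, -, hi⟩ := (Nat.dvd_prime_pow hp.out).1 (hn' ▸ ⟨w, hU.symm⟩ : P ∣ p ^ (n : ℕ))
    rcases Nat.eq_zero_or_pos i with rfl | hi0
    · rw [pow_zero] at hi; omega
    · exact ⟨hi ▸ hp3.trans (Nat.le_self_pow hi0.ne' p),
        hi ▸ (hp.out.odd_of_ne_two hp2).pow⟩
  have hq9 : 3 * P ≤ q := by
    rw [← hU, mul_comm]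
    exact Nat.mul_le_mul_left P hw3
  set m := D.others.ncard with hm
  set N := orderOf T.sigma with hN
  have hNq : 2 * N = q - 1 := T.order_sigma
  have hq : 3 < q := by omega
  have hm1 : 1 ≤ m := (Set.ncard_pos (Set.toFinite _)).2 ⟨_, hZ0⟩
  have horb : ∀ Z ∈ D.others, N ≤ (MaxPair.orb T Z).card * (P - 1) ∧
      (MaxPair.orb T Z).card ≤ m := fun Z hZ => ⟨MaxPair.le_orb_mul D T hq hZ, by
        rw [← Set.ncard_coe_finset]
        exact Set.ncard_le_ncard (MaxPair.orb_subset D T hZ) (Set.toFinite _)⟩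
  by_cases hall : ∀ Z ∈ D.others, MaxPair.InR D T Z
  · -- all in the complement
    have hind : P ^ m ≤ q := MaxPair.pow_others_le D T hall
    obtain ⟨h1, h3⟩ := horb Z0 hZ0
    have hle : q - 1 ≤ 2 * m * (P - 1) := by
      rw [← hNq, mul_assoc]
      exact Nat.mul_le_mul_left 2 (h1.trans (Nat.mul_le_mul_right _ h3))
    rcases Nat.lt_or_ge m 2 with hm2 | hm2
    · have h1m : m = 1 := by omega
      rw [h1m] at hle
      omega
    by_cases hP5 : 5 ≤ P
    · have key : ∀ k, 2 ≤ k → 2 * k * (P - 1) + 1 < P ^ k := by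
        intro k hk
        induction k, hk using Nat.le_induction with
        | base =>
          obtain ⟨r, hr⟩ : ∃ r, P = r + 1 := ⟨P - 1, by omega⟩
          rw [hr, Nat.add_sub_cancel]
          nlinarith
        | succ k hk ih =>
          rw [pow_succ]
          have : P ^ k * 5 ≤ P ^ k * P := Nat.mul_le_mul_left _ hP5
          have h2k : 2 * (P - 1) ≤ 2 * k * (P - 1) := Nat.mul_le_mul_right _ (by omega)
          have e : 2 * (k + 1) * (P - 1) = 2 * k * (P - 1) + 2 * (P - 1) := by ring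
          omega
      have := key m hm2
      omega
    obtain ⟨hP3', ⟨r, hr⟩⟩ := hP3
    obtain rfl : r = 1 := by omega
    rw [hr] at hind hle hU
    have key : ∀ k, 3 ≤ k → 4 * k + 1 < 3 ^ k := by
      intro k hk
      induction k, hk using Nat.le_induction with
      | base => norm_num
      | succ k hk ih => rw [pow_succ]; omega
    by_cases hm3 : 3 ≤ m
    · have := key m hm3
      simp at hind hle
      omega
    obtain hm' : m = 2 := by omega
    have hq' : q ≤ 9 := by rw [hm'] at hle; simp at hle; omega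
    have hq'' : q = 9 := by simp at hind; rw [hm'] at hind; omega
    rw [hq'', hm'] at hdvd
    norm_num at hdvd
  · push Not at hall
    obtain ⟨Z1, hZ1, hR1⟩ := hall
    have hfull : (MaxPair.orb T Z1).card = N := MaxPair.orb_full D T hq hZ1 fun k hk hkZ => by
      by_contra hk0
      exact hR1 (MaxPair.inR_of_stab D T hq hZ1 hkZ fun h =>
        hk0 (Nat.eq_zero_of_dvd_of_lt (orderOf_dvd_of_pow_eq_one h) hk))
    have hNm : N ≤ m := hfull ▸ (horb Z1 hZ1).2
    have hm' : m + 1 = 2 * N := by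
      obtain ⟨c, hc⟩ := hdvd
      rcases Nat.lt_or_ge c 2 with hc2 | hc2
      · interval_cases c <;> omega
      · have h' : (m + 1) * 2 ≤ (m + 1) * c := Nat.mul_le_mul_left _ hc2
        omega
    -- orbits outside the complement
    have hout : ∀ Z ∈ D.others, ¬ MaxPair.InR D T Z → Z ∈ MaxPair.orb T Z1 := by
      intro Z hZ hR
      by_contra hnot
      have hfullZ : (MaxPair.orb T Z).card = N := MaxPair.orb_full D T hq hZ fun k hk hkZ => by
        by_contra hk0
        exact hR (MaxPair.inR_of_stab D T hq hZ hkZ fun h =>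
          hk0 (Nat.eq_zero_of_dvd_of_lt (orderOf_dvd_of_pow_eq_one h) hk))
      have hdis : Disjoint (MaxPair.orb T Z) (MaxPair.orb T Z1) := by
        rw [Finset.disjoint_left]
        intro Y hY hY1
        obtain ⟨a, ha, rfl⟩ := (MaxPair.mem_orb T).1 hY
        obtain ⟨b, hb, hb'⟩ := (MaxPair.mem_orb T).1 hY1
        refine hnot ?_
        have : Z = T.tau ^ ((N - a) + b) • Z1 := by
          rw [pow_add, mul_smul, hb', ← mul_smul, ← pow_add, Nat.sub_add_cancel ha.le,
            show orderOf T.sigma = orderOf T.sigma * 1 + 0 by omega, MaxPair.pow_period D T hq hZ, pow_zero, one_smul]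
        rw [this]
        exact MaxPair.orb_of_pow D T hq hZ1 _
      classical
      have h := Set.ncard_le_ncard (s := ((MaxPair.orb T Z ∪ MaxPair.orb T Z1 : Finset _) : Set _))
        (t := D.others) (by
          rw [Finset.coe_union]
          exact Set.union_subset (MaxPair.orb_subset D T hZ) (MaxPair.orb_subset D T hZ1)) (Set.toFinite _)
      rw [Set.ncard_coe_finset, Finset.card_union_of_disjoint hdis, hfull, hfullZ, ← hm] at h
      omega
    have hin : {Z ∈ D.others | MaxPair.InR D T Z} =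
        D.others \ (MaxPair.orb T Z1 : Set (Set (K × K × K))) := by
      ext Z
      constructor
      · rintro ⟨hZ, hR⟩
        refine ⟨hZ, fun hmem => hR1 ?_⟩
        obtain ⟨k, hk, rfl⟩ := (MaxPair.mem_orb T).1 hmem
        have h := MaxPair.inR_pow D T hq hZ hR (N - k)
        rwa [← mul_smul, ← pow_add, Nat.sub_add_cancel hk.le, show orderOf T.sigma = orderOf T.sigma * 1 + 0 by omega,
          MaxPair.pow_period D T hq hZ1, pow_zero, one_smul] at h
      · rintro ⟨hZ, hnot⟩
        exact ⟨hZ, by_contra fun h => hnot (hout Z hZ h)⟩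
    have hcnt : {Z ∈ D.others | MaxPair.InR D T Z}.ncard = N - 1 := by
      rw [hin, Set.ncard_sdiff (MaxPair.orb_subset D T hZ1), Set.ncard_coe_finset, hfull]
      omega
    have hle : (N - 1) * (P - 1) ≤ q - 1 := hcnt ▸ MaxPair.card_inR_mul_le D T
    by_cases hP5 : 5 ≤ P
    · have : (N - 1) * 4 ≤ (N - 1) * (P - 1) := Nat.mul_le_mul_left _ (by omega)
      omega
    obtain ⟨hP3', ⟨r, hr⟩⟩ := hP3
    obtain rfl : r = 1 := by omega
    -- a member in the complement
    obtain ⟨Z2, hZ2, hR2⟩ : {Z ∈ D.others | MaxPair.InR D T Z}.Nonempty :=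
      Set.nonempty_of_ncard_ne_zero (by omega)
    have horbR : ∀ Z ∈ D.others, MaxPair.InR D T Z →
        2 * (MaxPair.orb T Z).card = N ∧
          (MaxPair.orb T Z : Set (Set (K × K × K))) ⊆ {Z ∈ D.others | MaxPair.InR D T Z} := by
      intro Z hZ hR
      have hsub : (MaxPair.orb T Z : Set (Set (K × K × K))) ⊆ {Z ∈ D.others | MaxPair.InR D T Z} := by
        intro Y hY
        obtain ⟨k, -, rfl⟩ := (MaxPair.mem_orb T).1 hY
        exact ⟨MaxPair.pow_mem_others D T hZ k, MaxPair.inR_pow D T hq hZ hR k⟩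
      refine ⟨le_antisymm ?_ (by have := (horb Z hZ).1; rw [hr] at this; simpa [mul_comm] using this), hsub⟩
      by_cases hfree : ∀ k, k < N → T.tau ^ k • Z = Z → k = 0
      · have := Set.ncard_le_ncard hsub (Set.toFinite _)
        rw [Set.ncard_coe_finset, MaxPair.orb_full D T hq hZ hfree, hcnt] at this
        omega
      push Not at hfree
      obtain ⟨k, hk, hkZ, hk0⟩ := hfree
      -- the stabilised projection has three elements
      obtain ⟨v, hv, hv0⟩ : ∃ v ∈ Z, v.1 ≠ 0 := by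
        by_contra hall
        push Not at hall
        obtain ⟨⟨⟨g, rfl⟩, hW, hx⟩, hne⟩ := hZ
        exact hne (Set.eq_of_subset_of_ncard_le (fun v hv => ⟨hall v hv, hx v hv⟩)
          (Set.ncard_smul_set g _).ge (Set.toFinite _))
      have hs1 : T.sigma ^ k ≠ 1 := fun h =>
        hk0 (Nat.eq_zero_of_dvd_of_lt (orderOf_dvd_of_pow_eq_one h) hk)
      have hmemu : ∀ v ∈ Z, T.sigma ^ k * v.1 ∈ MaxPair.fstSet Z := fun v hv =>
        ⟨_, hkZ ▸ Set.smul_mem_smul_set hv, (MaxPair.smul_pow_fixed D T hq k (hZ.1.2.2 v hv)).2.1⟩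
      have hUZ : (MaxPair.fstSet Z).ncard = 3 := by
        have := MaxPair.ncard_fstSet D hZ
        rw [← hqdef, ← hU, hr] at this
        exact Nat.eq_of_mul_eq_mul_right hwpos this
      have hneg : ∀ u ∈ MaxPair.fstSet Z, -u ∈ MaxPair.fstSet Z := by
        rintro _ ⟨x, hx, rfl⟩
        obtain ⟨⟨g, rfl⟩, -⟩ := hZ.1
        exact ⟨0 - x, img_sub (fun _ h _ h' => axis_sub h h')
          (Set.mem_smul_set_iff_inv_smul_mem.2 (by rw [smul_zero]; exact zero_axis)) hx, by simp⟩
      have hset : MaxPair.fstSet Z = {0, v.1, -v.1} := by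
        symm
        refine Set.eq_of_subset_of_ncard_le ?_ ?_ (Set.toFinite _)
        · rintro u (rfl | rfl | rfl)
          · exact ⟨_, hZ.1.2.1 D.w0_mem, rfl⟩
          · exact ⟨v, hv, rfl⟩
          · exact hneg _ ⟨v, hv, rfl⟩
        · rw [hUZ, Set.ncard_eq_three.2 ⟨0, v.1, -v.1, hv0.symm, (neg_ne_zero.2 hv0).symm, fun h => hv0 ?_, rfl⟩]
          have : 2 * v.1 = 0 := by linear_combination h
          exact (mul_eq_zero.1 this).resolve_left h2
      have hk1 : T.sigma ^ k = -1 := by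
        have := hmemu v hv
        rw [hset] at this
        rcases this with h | h | h
        · exfalso
          rw [mul_eq_zero, or_iff_left hv0] at h
          have := pow_eq_zero_iff'.1 h
          have h' := T.order_sigma
          rw [this.1, orderOf_zero] at h'
          omega
        · exact absurd (mul_right_cancel₀ hv0 (h.trans (one_mul _).symm)) hs1
        · exact mul_right_cancel₀ hv0 (h.trans (by ring))
      have h2k : 2 * k = N := by
        obtain ⟨c, hc⟩ := orderOf_dvd_of_pow_eq_one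
          (show T.sigma ^ (2 * k) = 1 by rw [mul_comm, pow_mul, hk1, neg_one_sq])
        rw [← hN] at hc
        have : c < 2 := by
          by_contra h
          have h' : N * 2 ≤ N * c := Nat.mul_le_mul_left _ (not_lt.1 h)
          omega
        interval_cases c <;> omega
      classical
      have : MaxPair.orb T Z ⊆ (Finset.range k).image fun i => T.tau ^ i • Z := by
        intro Y hY
        obtain ⟨i, hi, rfl⟩ := (MaxPair.mem_orb T).1 hY
        rcases Nat.lt_or_ge i k with h | h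
        · exact Finset.mem_image.2 ⟨i, Finset.mem_range.2 h, rfl⟩
        · refine Finset.mem_image.2 ⟨i - k, Finset.mem_range.2 (by omega), ?_⟩
          conv_rhs => rw [show i = (i - k) + k by omega, pow_add, mul_smul, hkZ]
      have := (Finset.card_le_card this).trans Finset.card_image_le
      rw [Finset.card_range] at this
      omega
    obtain ⟨hc2, hsub2⟩ := horbR Z2 hZ2 hR2
    obtain ⟨Z3, hZ3, hnot3⟩ : ∃ Z3, Z3 ∈ {Z ∈ D.others | MaxPair.InR D T Z} ∧
        Z3 ∉ (MaxPair.orb T Z2 : Set (Set (K × K × K))) := by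
      by_contra hall
      push Not at hall
      have := Set.ncard_le_ncard (fun Z hZ => hall Z hZ) (Set.toFinite _)
      rw [Set.ncard_coe_finset, hcnt] at this
      omega
    obtain ⟨hc3, hsub3⟩ := horbR Z3 hZ3.1 hZ3.2
    have hdis : Disjoint (MaxPair.orb T Z3) (MaxPair.orb T Z2) := by
      rw [Finset.disjoint_left]
      intro Y hY hY2
      obtain ⟨a, ha, rfl⟩ := (MaxPair.mem_orb T).1 hY
      obtain ⟨b, hb, hb'⟩ := (MaxPair.mem_orb T).1 hY2
      refine hnot3 ?_
      have : Z3 = T.tau ^ ((N - a) + b) • Z2 := by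
        rw [pow_add, mul_smul, hb', ← mul_smul, ← pow_add, Nat.sub_add_cancel ha.le,
          show orderOf T.sigma = orderOf T.sigma * 1 + 0 by omega, MaxPair.pow_period D T hq hZ3.1, pow_zero, one_smul]
      rw [this]
      exact MaxPair.orb_of_pow D T hq hZ2 _
    classical
    have := Set.ncard_le_ncard (s := ((MaxPair.orb T Z3 ∪ MaxPair.orb T Z2 : Finset _) : Set _))
      (t := {Z ∈ D.others | MaxPair.InR D T Z}) (by
        rw [Finset.coe_union]; exact Set.union_subset hsub3 hsub2) (Set.toFinite _)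
    rw [Set.ncard_coe_finset, Finset.card_union_of_disjoint hdis, hcnt] at this
    omega

end RootSetting

end Cfsg.Agent.Lib.SpFourExotic.Odd
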