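import Cfsg.Agent.Lib.SpFourExotic.Odd.Auto
import Cfsg.Agent.Lib.SpFourExotic.Odd.Algebra

/-!
The possible essential subgroups in odd characteristic: the abelian radical, the lines, and the
abelian subgroups of rank two.
-/

set_option autoImplicit false

namespace Cfsg.Agent.Lib.SpFourExotic.Odd

open Cfsg Cfsg.FusionSystem Cfsg.Agent.Lib.Fusion

variable {Ω : Type*} [Group Ω] {S : Subgroup Ω} {K : Type*} [Field K] {F : FusionSystem S}
  {p : ℕ} {R : Subgroup (U4 K)} (h2 : (2 : K) ≠ 0)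

include h2

theorem conj_comm_mid {g : U4 K} (hg : g ∈ mid K) (a : U4 K) :
    a⁻¹ * (g * a * g⁻¹) ∈ zed K := by
  obtain ⟨g1, g2⟩ := mem_mid.1 hg
  refine ⟨by simp [g1], by simp [g2], ?_⟩
  simp [g1, g2]; ring

omit h2 in
theorem conj_mem_mid (g a : U4 K) : a⁻¹ * (g * a * g⁻¹) ∈ mid K :=
  mem_mid.2 ⟨by simp, by simp⟩

theorem conj_mid_zed (g : U4 K) {a : U4 K} (ha : a ∈ mid K) : a⁻¹ * (g * a * g⁻¹) ∈ zed K := by
  obtain ⟨a1, a2⟩ := mem_mid.1 ha
  refine ⟨by simp [a1], by simp [a2], ?_⟩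
  simp [a1, a2]

theorem conj_zed (g : U4 K) {a : U4 K} (ha : a ∈ zed K) : g * a * g⁻¹ = a := by
  rw [← zed_central ha g, mul_inv_cancel_right]

theorem normalizes_of_mid_le (h : mid K ≤ R) (g : U4 K) :
    g ∈ Subgroup.normalizer (R : Set (U4 K)) := by
  have key : ∀ g a : U4 K, a ∈ R → g * a * g⁻¹ ∈ R := fun g a ha => by
    have := R.mul_mem ha (h (conj_mem_mid g a))
    rwa [mul_inv_cancel_left] at this
  refine Subgroup.mem_normalizer_iff.2 fun a => ⟨key g a, fun ha => ?_⟩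
  simpa [mul_assoc] using key g⁻¹ _ ha

/-- The centre of a non-abelian subgroup off the radical is the centre of the whole group. -/
theorem mem_zed_of_central {c : U4 K} (hc : c ∈ R) (hct : c.t ≠ 0)
    (hna : ¬ ∀ a ∈ R, ∀ b ∈ R, a * b = b * a) {z : U4 K} (hz : ∀ a ∈ R, z * a = a * z) :
    z ∈ zed K := by
  by_cases hzt : z.t = 0
  · obtain ⟨e1, e2⟩ := (commute_iff h2).1 (hz c hc)
    rw [hzt, zero_mul] at e1
    have hzu : z.u = 0 := (mul_eq_zero.1 e1.symm).resolve_left hct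
    rw [hzt, hzu] at e2
    refine ⟨hzt, hzu, ?_⟩
    simp at e2
    simpa [h2, hct] using e2
  · exact absurd (fun a ha b hb => ab_comm h2 (mem_ab_of_commute h2 hzt (hz a ha))
      (mem_ab_of_commute h2 hzt (hz b hb))) hna

theorem zed_invariant {c : U4 K} (hc : c ∈ R) (hct : c.t ≠ 0)
    (hna : ¬ ∀ a ∈ R, ∀ b ∈ R, a * b = b * a) (α : MulAut R) :
    ∀ x ∈ (zed K).subgroupOf R, α x ∈ (zed K).subgroupOf R := fun x hx => by
  refine Subgroup.mem_subgroupOf.2 (mem_zed_of_central h2 hc hct hna fun a ha => ?_)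
  have e : x * α.symm ⟨a, ha⟩ = α.symm ⟨a, ha⟩ * x :=
    Subtype.ext (zed_central (Subgroup.mem_subgroupOf.1 hx) _)
  have := congrArg α e
  rw [map_mul, map_mul, MulEquiv.apply_symm_apply] at this
  exact congrArg Subtype.val this

theorem line_not_abelian (l : K) : ¬ ∀ a ∈ line l, ∀ b ∈ line l, a * b = b * a := fun h => by
  have := h ⟨1, l, 0, 0⟩ (by simp [mem_line]) ⟨0, 0, 1, 0⟩ (by simp [mem_line])
  have h' := ((commute_iff h2).1 this).2
  simp [h2] at h'

theorem line_zed_invariant (l : K) (α : MulAut (line l)) :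
    ∀ x ∈ (zed K).subgroupOf (line l), α x ∈ (zed K).subgroupOf (line l) :=
  zed_invariant h2 (c := ⟨1, l, 0, 0⟩) (by simp [mem_line]) one_ne_zero (line_not_abelian h2 l) α

variable [Finite K] [Finite S] [hp : Fact p.Prime] (e : U4 K ≃* ↥S) (hS : IsPGroup p S)
  (hF : F.IsSaturated p)

include hS hF

/-- The middle subgroup is not invariant in an essential subgroup containing it. -/
theorem false_of_mid_invariant (hE : F.IsEssential p (sub e R)) (hmid : mid K ≤ R)
    (hM : ∀ α : autC F e R, ∀ x ∈ (mid K).subgroupOf R, (α : MulAut R) x ∈ (mid K).subgroupOf R)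
    (hZ : ∀ α : autC F e R, ∀ x ∈ (zed K).subgroupOf R, (α : MulAut R) x ∈ (zed K).subgroupOf R) :
    False := by
  obtain ⟨P, hP⟩ := exists_sylow_induced e hS hF hE.2.1
  have hZM : (zed K).subgroupOf R ≤ (mid K).subgroupOf R := fun x hx => zed_le_mid hx
  have heq := sylow_eq_stab3 e hS (hZM := hZM) P fun α hα => by
    rw [hP, Subgroup.mem_subgroupOf, mem_autInducedBy] at hα
    obtain ⟨g, -, hg⟩ := hα
    refine ⟨fun x => ?_, fun x hx => ?_, fun x hx => Subtype.ext ?_⟩
    · rw [Subgroup.mem_subgroupOf, Subgroup.coe_mul, Subgroup.coe_inv, hg]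
      exact conj_mem_mid g _
    · rw [Subgroup.mem_subgroupOf, Subgroup.coe_mul, Subgroup.coe_inv, hg]
      exact conj_mid_zed h2 g (Subgroup.mem_subgroupOf.1 hx)
    · rw [hg]; exact conj_zed h2 g (Subgroup.mem_subgroupOf.1 hx)
  refine not_normal e hE P ?_
  rw [heq]
  exact ⟨fun k hk a => conj_mem_stab3 (hZM := hZM)
    (fun x => iff_of_forall (fun x hx => hM a x hx) x) (fun x => iff_of_forall (fun x hx => hZ a x hx) x) hk⟩

omit hF in
/-- The possible essential subgroups. -/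
theorem essential_cases (hF : F.IsSaturated p) {E : Subgroup Ω} (hE : F.IsEssential p E) :
    ∃ R : Subgroup (U4 K), E = sub e R ∧
      (R = rad1 K ∨ (∃ l, R = line l) ∨ ∃ l m, R = ab h2 l m) := by
  obtain ⟨R, rfl⟩ : ∃ R : Subgroup (U4 K), E = sub e R := by
    refine ⟨E.comap (S.subtype.comp e.toMonoidHom), ?_⟩
    ext x
    constructor
    · intro hx
      obtain ⟨a, rfl⟩ := exists_el e (hE.1.1 hx)
      exact ⟨a, hx, rfl⟩
    · rintro ⟨a, ha, rfl⟩; exact ha
  refine ⟨R, rfl, ?_⟩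
  have hcen : ∀ a, (∀ b ∈ R, a * b = b * a) → a ∈ R := fun a ha => by
    refine (el_mem_sub e).1 (centralizerIn_le_of_isCentric hE.1 ⟨el_mem e a, fun y hy => ?_⟩)
    obtain ⟨b, hb, rfl⟩ := (mem_sub e).1 hy
    exact (commute_el e).2 (ha b hb).symm
  by_cases ht : ∀ a ∈ R, a.t = 0
  · exact Or.inl (le_antisymm ht fun a ha => hcen a fun b hb => rad1_comm' h2 ha (ht b hb))
  push Not at ht
  obtain ⟨c, hc, hct⟩ := ht
  by_cases habel : ∀ a ∈ R, ∀ b ∈ R, a * b = b * a
  · have hle : R ≤ ab h2 (c.u / c.t) (c.x / c.t - c.u / c.t * c.t / 2) := fun b hb =>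
      mem_ab_of_commute h2 hct (habel c hc b hb)
    exact Or.inr (Or.inr ⟨_, _, le_antisymm hle fun a ha =>
      hcen a fun b hb => ab_comm h2 ha (hle hb)⟩)
  have hzR : zed K ≤ R := fun a ha => hcen a fun b _ => zed_central ha b
  have hZinv : ∀ α : autC F e R, ∀ x ∈ (zed K).subgroupOf R, (α : MulAut R) x ∈ (zed K).subgroupOf R :=
    fun α => zed_invariant h2 hc hct habel (α : MulAut R)
  have hmR : mid K ≤ R := fun g hg => by
    have hn : g ∈ Subgroup.normalizer (R : Set (U4 K)) := by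
      have key : ∀ g ∈ mid K, ∀ a ∈ R, g * a * g⁻¹ ∈ R := fun g hg a ha => by
        have := R.mul_mem ha (hzR (conj_comm_mid h2 hg a))
        rwa [mul_inv_cancel_left] at this
      refine Subgroup.mem_normalizer_iff.2 fun a => ⟨key g hg a, fun ha => ?_⟩
      simpa [mul_assoc] using key g⁻¹ ((mid K).inv_mem hg) _ ha
    refine mem_of_stab3 e hS hE (le_refl ((zed K).subgroupOf R)) hZinv hZinv hn
      ⟨fun x => ?_, fun x hx => ?_, fun x hx => Subtype.ext ?_⟩
    · rw [Subgroup.mem_subgroupOf, Subgroup.coe_mul, Subgroup.coe_inv, conjAut_apply]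
      exact conj_comm_mid h2 hg _
    · rw [Subgroup.mem_subgroupOf, Subgroup.coe_mul, Subgroup.coe_inv, conjAut_apply]
      exact conj_comm_mid h2 hg _
    · rw [conjAut_apply]; exact conj_zed h2 g (Subgroup.mem_subgroupOf.1 hx)
  refine Or.inr (Or.inl ⟨c.u / c.t, ?_⟩)
  have hRline : R ≤ line (c.u / c.t) := by
    intro b hb
    by_contra hbl
    refine false_of_mid_invariant h2 e hS hF hE hmR (fun α x hx => ?_) hZinv
    -- the middle subgroup is the second centre
    have hker : ∀ y : R, ((α : MulAut R) x * y * ((α : MulAut R) x)⁻¹ * y⁻¹ : R) ∈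
        (zed K).subgroupOf R := fun y => by
      obtain ⟨z, rfl⟩ := (α : MulAut R).surjective y
      have : x * z * x⁻¹ * z⁻¹ ∈ (zed K).subgroupOf R := by
        rw [Subgroup.mem_subgroupOf]
        show (x : U4 K) * z * (x : U4 K)⁻¹ * (z : U4 K)⁻¹ ∈ zed K
        refine ⟨by simp, by simp, ?_⟩
        rw [comm_x]
        simp [(mem_mid.1 (Subgroup.mem_subgroupOf.1 hx)).1, (mem_mid.1 (Subgroup.mem_subgroupOf.1 hx)).2]
      simpa only [map_mul, map_inv] using hZinv α _ this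
    set w : U4 K := (((α : MulAut R) x : R) : U4 K)
    have e1 := (mem_zed.1 (Subgroup.mem_subgroupOf.1 (hker ⟨c, hc⟩))).2.2
    have e2 := (mem_zed.1 (Subgroup.mem_subgroupOf.1 (hker ⟨b, hb⟩))).2.2
    change (w * c * w⁻¹ * c⁻¹).x = 0 at e1
    change (w * b * w⁻¹ * b⁻¹).x = 0 at e2
    rw [comm_x] at e1 e2
    have hdet : c.t * b.u - b.t * c.u ≠ 0 := fun h => hbl (by
      rw [mem_line]
      field_simp
      linear_combination h)
    have hwt : w.t = 0 := by
      have : w.t * (c.t * b.u - b.t * c.u) = 0 := by linear_combination c.t * e2 - b.t * e1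
      exact (mul_eq_zero.1 this).resolve_right hdet
    rw [Subgroup.mem_subgroupOf, mem_mid]
    refine ⟨hwt, ?_⟩
    have : c.t * w.u = 0 := by rw [hwt] at e1; linear_combination -e1
    exact (mul_eq_zero.1 this).resolve_left hct
  refine le_antisymm hRline fun g hg => ?_
  refine mem_of_stab3 e hS hE (le_refl ((zed K).subgroupOf R)) hZinv hZinv (normalizes_of_mid_le h2 hmR g)
    ⟨fun x => ?_, fun x hx => ?_, fun x hx => Subtype.ext ?_⟩
  · rw [Subgroup.mem_subgroupOf, Subgroup.coe_mul, Subgroup.coe_inv, conjAut_apply,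
      line_form h2 hg (hRline x.2), mul_assoc _ _ g⁻¹,
      zed_central (show (⟨0, 0, 0, _⟩ : U4 K) ∈ zed K from ⟨rfl, rfl, rfl⟩) g⁻¹]
    simp only [mul_assoc, inv_mul_cancel_left, mul_inv_cancel_left]
    exact ⟨rfl, rfl, rfl⟩
  · rw [Subgroup.mem_subgroupOf, Subgroup.coe_mul, Subgroup.coe_inv, conjAut_apply,
      conj_zed h2 g (Subgroup.mem_subgroupOf.1 hx), inv_mul_cancel]
    exact one_mem _
  · rw [conjAut_apply]; exact conj_zed h2 g (Subgroup.mem_subgroupOf.1 hx)

end Cfsg.Agent.Lib.SpFourExotic.Odd
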