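import Cfsg.Agent.Lib.SpFourExotic.Odd.Line

/-!
An involution of a line determines the line: there is at most one essential line.
-/

set_option autoImplicit false

namespace Cfsg.Agent.Lib.SpFourExotic.Odd

open Cfsg Cfsg.FusionSystem Cfsg.Agent.Lib.Fusion

variable {Ω : Type*} [Group Ω] {S : Subgroup Ω} {K : Type*} [Field K] {F : FusionSystem S}
  {p : ℕ} (h2 : (2 : K) ≠ 0)

/-- An automorphism acting as the central involution of a line. -/
structure IsFlip (F : FusionSystem S) (e : U4 K ≃* ↥S) (l : K) (β : MulAut (U4 K)) : Prop where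
  mem : β ∈ autS F e
  fix : ∀ z ∈ zed K, β z = z
  line_mem : ∀ a ∈ line l, β a ∈ line l
  mid_neg : ∀ m ∈ mid K, β m ∈ mid K ∧ (β m).x = -1 * m.x

include h2

theorem mid_invariant (β : MulAut (U4 K)) {m : U4 K} (hm : m ∈ mid K) : β m ∈ mid K := by
  obtain ⟨m1, m2⟩ := mem_mid.1 hm
  set c : U4 K := ⟨1, 0, 0, 0⟩ * ⟨0, m.x, 0, 0⟩ * (⟨1, 0, 0, 0⟩ : U4 K)⁻¹ * (⟨0, m.x, 0, 0⟩ : U4 K)⁻¹
    with hc
  have hz : c⁻¹ * m ∈ zed K := by
    refine ⟨by simp [hc, m1], by simp [hc, m2], ?_⟩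
    simp [hc, m1, m2]
  have e1 : β c ∈ mid K := by
    rw [hc, map_mul, map_mul, map_mul, map_inv, map_inv]
    exact comm_mid _ _
  have e2 : β (c⁻¹ * m) ∈ zed K := by
    refine (mem_zed_iff h2).2 fun b => ?_
    obtain ⟨b', rfl⟩ := β.surjective b
    rw [← map_mul, ← map_mul, zed_central hz b']
  have := (mid K).mul_mem e1 (zed_le_mid e2)
  rwa [← map_mul, mul_inv_cancel_left] at this

theorem zed_map (β : MulAut (U4 K)) {z : U4 K} (hz : z ∈ zed K) : β z ∈ zed K := by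
  refine (mem_zed_iff h2).2 fun b => ?_
  obtain ⟨b', rfl⟩ := β.surjective b
  rw [← map_mul, ← map_mul, zed_central hz b']

theorem rad1_map (β : MulAut (U4 K)) {a : U4 K} (ha : a ∈ rad1 K) : β a ∈ rad1 K := by
  have hm : (⟨0, 0, 1, 0⟩ : U4 K) ∈ mid K := mem_mid.2 ⟨rfl, rfl⟩
  have h := congrArg β (rad1_comm' h2 ha (mid_le_rad1 (mid_invariant h2 β⁻¹ hm)))
  rw [map_mul, map_mul, MulAut.apply_inv_self] at h
  have h' := ((commute_iff h2).1 h).2
  rw [mem_rad1]
  simpa [h2] using h'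

/-- The image of a line is a line. -/
theorem exists_line_map (β : MulAut (U4 K)) (l : K) : ∃ m : K, ∀ a ∈ line l, β a ∈ line m := by
  by_cases ht : ∀ a ∈ line l, (β a).t = 0
  · refine absurd (fun a ha b hb => β.injective ?_) (line_not_abelian h2 l)
    rw [map_mul, map_mul]
    exact rad1_comm' h2 (ht a ha) (ht b hb)
  push Not at ht
  obtain ⟨c, hc, hct⟩ := ht
  refine ⟨(β c).u / (β c).t, fun a ha => ?_⟩
  have hz : c * a * c⁻¹ * a⁻¹ ∈ zed K := by
    refine ⟨by simp, by simp, ?_⟩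
    rw [comm_x, mem_line.1 ha, mem_line.1 hc]; ring
  have h := (mem_zed.1 (zed_map h2 β hz)).2.2
  rw [map_mul, map_mul, map_mul, map_inv, map_inv, comm_x] at h
  rw [mem_line]
  field_simp
  linear_combination h

variable [Finite K] [Finite S] [hp : Fact p.Prime] [CharP K p] (e : U4 K ≃* ↥S) (hS : IsPGroup p S)
  (hF : F.IsSaturated p)

include hS hF

omit [CharP K p] in
omit h2 in
/-- Automorphisms in the system have a power prime to `p` that is inner. -/
theorem exists_pow_inner {β : MulAut (U4 K)} (hβ : β ∈ autS F e) :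
    ∃ n g, ¬ p ∣ n ∧ ∀ a, (β ^ n) a = g * a * g⁻¹ := by
  have := finite_autGroup (F := F) (le_rfl : S ≤ S)
  haveI := finite_of_le (normalizerIn_le S : normalizerIn S S ≤ S)
  obtain ⟨-, T, hT⟩ := isFullyAutomized_of_isFullyNormalized hS hF (P := S)
    ⟨le_rfl, fun Q _ => Subgroup.card_le_of_le ((normalizerIn_le Q).trans (le_normalizerIn le_rfl))⟩
  have hTn : (T : Subgroup (F.autGroup S)).Normal := by
    rw [hT, ← inn_eq_autInducedBy]
    exact inn_normal_subgroupOf F S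
  have hmem : (⟨MulAut.congr e β, hβ⟩ : F.autGroup S) ^ (T : Subgroup (F.autGroup S)).index ∈
      (T : Subgroup (F.autGroup S)) := Subgroup.pow_index_mem _ _
  rw [hT, Subgroup.mem_subgroupOf, mem_autInducedBy] at hmem
  obtain ⟨x, hx, hxm⟩ := hmem
  obtain ⟨g, rfl⟩ := exists_el e hx
  refine ⟨_, g, T.not_dvd_index, fun a => e.injective (Subtype.ext ?_)⟩
  have h := hxm (e a)
  rw [hT] at *
  rw [SubmonoidClass.coe_pow, ← map_pow] at h
  simp only [MulAut.congr] at h
  simpa [el, MulAut.congr] using h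

/-- Two flips belong to the same line. -/
theorem IsFlip.eq {l l' : K} {β β' : MulAut (U4 K)} (h : IsFlip F e l β) (h' : IsFlip F e l' β') :
    l = l' := by
  have hk : ∀ {l : K} {β : MulAut (U4 K)}, IsFlip F e l β → (β ⟨1, 0, 0, 0⟩).u = -2 * l := by
    intro l β h
    have ha : (⟨1, l, 0, 0⟩ : U4 K) ∈ line l := by simp [mem_line]
    obtain ⟨e1, e2⟩ := torus_formula h2 (L := (-1 : K)) (by norm_num) h.fix h.mid_neg ⟨1, l, 0, 0⟩
    have e3 := mem_line.1 (h.line_mem _ ha)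
    rw [e1, e2] at e3
    field_simp at e3
    linear_combination e3
  set γ := β * β' with hγ
  have hfix : ∀ z ∈ zed K, γ z = z := fun z hz => by rw [hγ, MulAut.mul_apply, h'.fix z hz, h.fix z hz]
  have hmid : ∀ m ∈ mid K, γ m ∈ mid K ∧ (γ m).x = 1 * m.x := fun m hm => by
    obtain ⟨a1, a2⟩ := h'.mid_neg m hm
    obtain ⟨b1, b2⟩ := h.mid_neg _ a1
    exact ⟨b1, by rw [hγ, MulAut.mul_apply, b2, a2]; ring⟩
  have hform := fun a => torus_formula h2 (L := (1 : K)) one_ne_zero hfix hmid a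
  have hκ : (γ ⟨1, 0, 0, 0⟩).u = 2 * (l - l') := by
    rw [hγ, MulAut.mul_apply]
    obtain ⟨e1, e2⟩ := torus_formula h2 (L := (-1 : K)) (by norm_num) h.fix h.mid_neg (β' ⟨1, 0, 0, 0⟩)
    rw [e2, hk h', hk h, (torus_formula h2 (L := (-1 : K)) (by norm_num) h'.fix h'.mid_neg _).1]
    norm_num
    ring
  have hpow : ∀ (j : ℕ), ((γ ^ j) ⟨1, 0, 0, 0⟩).t = 1 ∧
      ((γ ^ j) ⟨1, 0, 0, 0⟩).u = (j : K) * (2 * (l - l')) := by
    intro j
    induction j with
    | zero => simp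
    | succ j ih =>
      obtain ⟨a, b⟩ := hform ((γ ^ j) ⟨1, 0, 0, 0⟩)
      rw [pow_succ', MulAut.mul_apply, a, b, ih.1, ih.2, hκ]
      push_cast
      constructor <;> ring
  obtain ⟨n, g, hn, hg⟩ := exists_pow_inner e hS hF ((autS F e).mul_mem h.mem h'.mem)
  have h0 := (hpow n).2
  rw [hg] at h0
  simp at h0
  have hnK : (n : K) ≠ 0 := fun h0 => hn ((CharP.cast_eq_zero_iff K p n).1 h0)
  rcases h0 with h0 | h0 | h0
  all_goals first | exact absurd h0 hnK | exact absurd h0 h2 | exact sub_eq_zero.1 h0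

/-- An essential line is preserved by the automorphisms of the whole group. -/
theorem line_map {l : K} (hE : F.IsEssential p (sub e (line l))) {β : MulAut (U4 K)}
    (hβ : β ∈ autS F e) : ∀ a ∈ line l, β a ∈ line l := by
  obtain ⟨f, hf, hfz, hfl, hfm⟩ :=
    exists_torus h2 e hS hF hE (r := (-1 : K)) (neg_ne_zero.2 one_ne_zero)
  have hflip : IsFlip F e l f := ⟨hf, hfz, hfl, fun m hm => by
    obtain ⟨a, b⟩ := hfm m hm
    exact ⟨a, by rw [b]; norm_num⟩⟩
  obtain ⟨μ, hμ⟩ := exists_line_map h2 β l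
  obtain ⟨ν, hν⟩ := exists_line_map h2 β⁻¹ μ
  have hνl : ν = l := by
    have := hν _ (hμ ⟨1, l, 0, 0⟩ (by simp [mem_line]))
    rw [MulAut.inv_apply_self, mem_line] at this
    simpa [eq_comm] using this
  subst hνl
  have hconj : IsFlip F e μ (β * f * β⁻¹) := by
    refine ⟨(autS F e).mul_mem ((autS F e).mul_mem hβ hf) ((autS F e).inv_mem hβ), fun z hz => ?_,
      fun a ha => hμ _ (hfl _ (hν a ha)), fun m hm => ?_⟩
    · show β (f (β⁻¹ z)) = z
      rw [hfz _ (zed_map h2 β⁻¹ hz), MulAut.apply_inv_self]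
    · have hm' := mid_invariant h2 β⁻¹ hm
      obtain ⟨a, b⟩ := hflip.mid_neg _ hm'
      refine ⟨mid_invariant h2 β a, ?_⟩
      have hmeq : β (β⁻¹ m) = m := MulAut.apply_inv_self _ _ _
      show (β (f (β⁻¹ m))).x = _
      generalize β⁻¹ m = m' at hm' a b hmeq
      obtain ⟨a1, a2⟩ := mem_mid.1 a
      obtain ⟨m1, m2⟩ := mem_mid.1 hm'
      have hz : f m' * m' ∈ zed K := by
        refine ⟨by simp [a1, m1], by simp [a2, m2], ?_⟩
        simp [a1, b]
      have h := (mem_zed.1 (zed_map h2 β hz)).2.2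
      rw [map_mul, hmeq] at h
      simp [(mem_mid.1 (mid_invariant h2 β a)).1, (mem_mid.1 hm).2] at h
      linear_combination h
  have := hflip.eq h2 e hS hF hconj
  subst this
  exact hμ

end Cfsg.Agent.Lib.SpFourExotic.Odd
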