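import Mathlib.GroupTheory.Sylow
import Mathlib.Algebra.CharP.Basic
import Mathlib.Algebra.Field.Basic
import Mathlib.Tactic

/-!
A linear group on `K × K × K` with a Sylow subgroup in the root subgroup shape of the orthogonal
group in three dimensions: fixed spaces, their stabilisers and a maximal intersection of them.
-/

set_option autoImplicit false

namespace Cfsg.Agent.Lib.SpFourExotic.Odd

open scoped Pointwise

variable {K : Type*} [Field K]

/-- The first axis. -/
def axisSet (K : Type*) [Field K] : Set (K × K × K) := {v | v.1 = 0 ∧ v.2.1 = 0}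

/-- The middle plane. -/
def planeSet (K : Type*) [Field K] : Set (K × K × K) := {v | v.1 = 0}

/-- The data of the radical with abelian structure. -/
structure RootSetting (p : ℕ) (G : Type*) [Group G] [DistribMulAction G (K × K × K)] where
  tr : K → G
  P : Sylow p G
  range_tr : ((P : Subgroup G) : Set G) = Set.range tr
  smul_tr : ∀ s u x y : K, tr s • ((u, x, y) : K × K × K) =
    (u, x + s * u, y + 2 * s * x + s * s * u)
  faith : ∀ g : G, (∀ v : K × K × K, g • v = v) → g = 1
  not_normal : ¬ (P : Subgroup G).Normal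
  chain : ∀ g : G, (∀ v : K × K × K, g • v - v ∈ planeSet K) →
    (∀ v ∈ planeSet K, g • v - v ∈ axisSet K) → (∀ v ∈ axisSet K, g • v = v) → g ∈ Set.range tr
  inv : G
  smul_inv : ∀ u x y : K, inv • ((u, x, y) : K × K × K) = (u, -x, y)
  w0 : K
  w0_ne : w0 ≠ 0
  w0_fixed : ∀ g : G, g • ((0, 0, w0) : K × K × K) ∈ axisSet K

namespace RootSetting

variable {p : ℕ} {G : Type*} [Group G] [DistribMulAction G (K × K × K)] (X : RootSetting (K := K) p G)

theorem mem_axis {v : K × K × K} : v ∈ axisSet K ↔ v.1 = 0 ∧ v.2.1 = 0 := Iff.rfl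
theorem mem_plane {v : K × K × K} : v ∈ planeSet K ↔ v.1 = 0 := Iff.rfl

theorem axis_subset : axisSet K ⊆ planeSet K := fun _ h => h.1

theorem zero_axis : (0 : K × K × K) ∈ axisSet K := ⟨rfl, rfl⟩

theorem axis_add {v w : K × K × K} (hv : v ∈ axisSet K) (hw : w ∈ axisSet K) : v + w ∈ axisSet K :=
  ⟨by simp [hv.1, hw.1], by simp [hv.2, hw.2]⟩

theorem axis_sub {v w : K × K × K} (hv : v ∈ axisSet K) (hw : w ∈ axisSet K) : v - w ∈ axisSet K :=
  ⟨by simp [hv.1, hw.1], by simp [hv.2, hw.2]⟩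

theorem plane_add {v w : K × K × K} (hv : v ∈ planeSet K) (hw : w ∈ planeSet K) :
    v + w ∈ planeSet K := by
  simp [mem_plane.1 hv, mem_plane.1 hw, mem_plane]

theorem plane_sub {v w : K × K × K} (hv : v ∈ planeSet K) (hw : w ∈ planeSet K) :
    v - w ∈ planeSet K := by
  simp [mem_plane.1 hv, mem_plane.1 hw, mem_plane]

theorem img_add {A : Set (K × K × K)} (hA : ∀ v ∈ A, ∀ w ∈ A, v + w ∈ A) {g : G} {v w : K × K × K}
    (hv : v ∈ g • A) (hw : w ∈ g • A) : v + w ∈ g • A := by
  rw [Set.mem_smul_set_iff_inv_smul_mem] at *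
  rw [smul_add]
  exact hA _ hv _ hw

theorem img_sub {A : Set (K × K × K)} (hA : ∀ v ∈ A, ∀ w ∈ A, v - w ∈ A) {g : G} {v w : K × K × K}
    (hv : v ∈ g • A) (hw : w ∈ g • A) : v - w ∈ g • A := by
  rw [Set.mem_smul_set_iff_inv_smul_mem] at *
  rw [smul_sub]
  exact hA _ hv _ hw

/-- The Sylow subgroup is elementary. -/
theorem tr_add (s t : K) : X.tr (s + t) = X.tr s * X.tr t := by
  refine (inv_mul_eq_one.1 (X.faith _ fun v => ?_))
  obtain ⟨u, x, y⟩ := v
  rw [mul_smul, inv_smul_eq_iff, mul_smul, X.smul_tr, X.smul_tr, X.smul_tr, Prod.mk.injEq,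
    Prod.mk.injEq]
  exact ⟨rfl, by ring, by ring⟩

theorem tr_zero : X.tr 0 = 1 := X.faith _ fun ⟨u, x, y⟩ => by simp [X.smul_tr]

theorem tr_inv (s : K) : (X.tr s)⁻¹ = X.tr (-s) :=
  inv_eq_of_mul_eq_one_right (by rw [← tr_add, add_neg_cancel, tr_zero])

theorem tr_mem (s : K) : X.tr s ∈ (X.P : Subgroup G) := by
  rw [← SetLike.mem_coe, X.range_tr]; exact ⟨s, rfl⟩

theorem exists_tr {g : G} (hg : g ∈ (X.P : Subgroup G)) : ∃ s, X.tr s = g := by
  rw [← SetLike.mem_coe, X.range_tr] at hg; exact hg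

theorem inv_inv_eq : X.inv * X.inv = 1 :=
  X.faith _ fun ⟨u, x, y⟩ => by simp [mul_smul, X.smul_inv]

theorem inv_tr (s : K) : X.inv * X.tr s * X.inv = X.tr (-s) := by
  refine (inv_mul_eq_one.1 (X.faith _ fun v => ?_))
  obtain ⟨u, x, y⟩ := v
  rw [mul_smul, inv_smul_eq_iff, mul_smul, mul_smul, X.smul_inv, X.smul_tr, X.smul_inv, X.smul_tr,
    Prod.mk.injEq, Prod.mk.injEq]
  exact ⟨rfl, by ring, by ring⟩

theorem tr_fix_axis (s : K) {v : K × K × K} (hv : v ∈ axisSet K) : X.tr s • v = v := by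
  obtain ⟨u, x, y⟩ := v
  obtain ⟨rfl, rfl⟩ : u = 0 ∧ x = 0 := hv
  simp [X.smul_tr]

theorem tr_plane (s : K) {v : K × K × K} (hv : v ∈ planeSet K) : X.tr s • v - v ∈ axisSet K := by
  obtain ⟨u, x, y⟩ := v
  obtain rfl : u = 0 := hv
  simp [X.smul_tr, mem_axis]

theorem tr_sub (s : K) (v : K × K × K) : X.tr s • v - v ∈ planeSet K := by
  obtain ⟨u, x, y⟩ := v
  simp [X.smul_tr, mem_plane]

theorem inv_fix_axis {v : K × K × K} (hv : v ∈ axisSet K) : X.inv • v = v := by
  obtain ⟨u, x, y⟩ := v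
  obtain ⟨rfl, rfl⟩ : u = 0 ∧ x = 0 := hv
  simp [X.smul_inv]

variable (h2 : (2 : K) ≠ 0)

include h2 in
theorem axis_of_fix {s : K} (hs : s ≠ 0) {v : K × K × K} (hv : X.tr s • v = v) :
    v ∈ axisSet K := by
  obtain ⟨u, x, y⟩ := v
  rw [X.smul_tr, Prod.mk.injEq, Prod.mk.injEq] at hv
  obtain ⟨-, e1, e2⟩ := hv
  rw [add_eq_left, mul_eq_zero, or_iff_right hs] at e1
  subst e1
  simp [mul_assoc, h2, hs] at e2
  exact ⟨rfl, e2⟩

include h2 in
theorem inv_fix_iff {v : K × K × K} : X.inv • v = v ↔ v.2.1 = 0 := by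
  obtain ⟨u, x, y⟩ := v
  rw [X.smul_inv]
  simp only [Prod.mk.injEq, true_and, and_true]
  constructor
  · intro h
    have : 2 * x = 0 := by linear_combination -h
    exact (mul_eq_zero.1 this).resolve_left h2
  · rintro rfl; exact neg_zero

variable [Finite G] [Finite K] [hp : Fact p.Prime]

omit hp in
theorem smul_eq_of_forall {g : G} {A : Set (K × K × K)} (h : ∀ v ∈ A, g • v ∈ A) : g • A = A := by
  refine Set.eq_of_subset_of_ncard_le ?_ (le_of_eq (Set.ncard_smul_set g A).symm) (Set.toFinite _)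
  rintro _ ⟨v, hv, rfl⟩
  exact h v hv

/-- A `p`-element stabilising both flags lies in the Sylow subgroup. -/
theorem mem_range_of_stab {g : G} (hg : ∃ k, g ^ (p ^ k) = 1) (h1 : g • axisSet K = axisSet K)
    (h2 : g • planeSet K = planeSet K) : g ∈ Set.range X.tr := by
  let N : Subgroup G :=
    MulAction.stabilizer G (axisSet K) ⊓ MulAction.stabilizer G (planeSet K)
  have hN : (X.P : Subgroup G) ≤ N := by
    intro a ha
    obtain ⟨s, rfl⟩ := X.exists_tr ha
    refine ⟨smul_eq_of_forall fun v hv => by rwa [X.tr_fix_axis s hv], smul_eq_of_forall fun v hv => ?_⟩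
    simpa using plane_add (axis_subset (X.tr_plane s hv)) hv
  have hnorm : ∀ n ∈ N, ∀ a ∈ (X.P : Subgroup G), n * a * n⁻¹ ∈ (X.P : Subgroup G) := by
    rintro n ⟨hn1, hn2⟩ a ha
    obtain ⟨s, rfl⟩ := X.exists_tr ha
    have hi : ∀ (A : Set (K × K × K)), n • A = A → ∀ v ∈ A, n • v ∈ A ∧ n⁻¹ • v ∈ A :=
      fun A hA v hv => ⟨hA ▸ Set.smul_mem_smul_set hv,
        by rw [← Set.mem_smul_set_iff_inv_smul_mem, hA]; exact hv⟩
    have e : ∀ v : K × K × K, (n * X.tr s * n⁻¹) • v - v = n • (X.tr s • (n⁻¹ • v) - n⁻¹ • v) :=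
      fun v => by rw [smul_sub, smul_inv_smul, mul_smul, mul_smul]
    rw [← SetLike.mem_coe, X.range_tr]
    refine X.chain _ (fun v => ?_) (fun v hv => ?_) fun v hv => ?_
    · rw [e]; exact (hi _ hn2 _ (X.tr_sub s _)).1
    · rw [e]; exact (hi _ hn1 _ (X.tr_plane s (hi _ hn2 v hv).2)).1
    · rw [mul_smul, mul_smul, X.tr_fix_axis s (hi _ hn1 v hv).2, smul_inv_smul]
  have hz : Subgroup.zpowers g ≤ Subgroup.normalizer ((X.P : Subgroup G) : Set G) := by
    refine Subgroup.zpowers_le.2 (Subgroup.mem_normalizer_iff.2 fun a => ⟨hnorm g ⟨h1, h2⟩ a, fun ha => ?_⟩)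
    have := hnorm g⁻¹ (N.inv_mem ⟨h1, h2⟩) _ ha
    simpa [mul_assoc] using this
  have hp' : IsPGroup p ↥((X.P : Subgroup G) ⊔ Subgroup.zpowers g) := by
    refine IsPGroup.to_sup_of_normal_left' X.P.2 ?_ hz
    obtain ⟨k, hk⟩ := hg
    obtain ⟨j, -, hj⟩ := (Nat.dvd_prime_pow hp.out).1 (orderOf_dvd_of_pow_eq_one hk)
    exact IsPGroup.of_card (n := j) (by rw [Nat.card_zpowers, hj])
  obtain ⟨Q, hQ⟩ := hp'.exists_le_sylow
  have : (Q : Subgroup G) = X.P := X.P.3 Q.2 (le_sup_left.trans hQ)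
  obtain ⟨s, hs⟩ := X.exists_tr (this ▸ hQ (Subgroup.mem_sup_right (Subgroup.mem_zpowers g)))
  exact ⟨s, hs⟩

theorem pow_tr (s : K) : ∃ k, X.tr s ^ (p ^ k) = 1 := by
  obtain ⟨k, hk⟩ := X.P.2 ⟨X.tr s, X.tr_mem s⟩
  exact ⟨k, congrArg Subtype.val hk⟩

theorem pow_conj (g : G) (s : K) : ∃ k, (g * X.tr s * g⁻¹) ^ (p ^ k) = 1 := by
  obtain ⟨k, hk⟩ := X.pow_tr s
  exact ⟨k, by rw [conj_pow, hk, mul_one, mul_inv_cancel]⟩

include X h2 in
/-- The stabiliser of the axis stabilises the plane. -/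
theorem plane_of_axis {h : G} (hh : h • axisSet K = axisSet K) : h • planeSet K = planeSet K := by
  by_contra hne
  let T : Set G := {g | g • axisSet K = axisSet K ∧ g • planeSet K ≠ planeSet K}
  have hin : ∀ {g : G}, g • axisSet K = axisSet K → axisSet K ⊆ g • planeSet K := fun {g} hg =>
    hg ▸ Set.smul_set_mono axis_subset
  have hdev : ∀ {g : G}, g • axisSet K = axisSet K → ∀ (s : K), ∀ m ∈ g • planeSet K,
      (g * X.tr s * g⁻¹) • m - m ∈ axisSet K := by
    intro g hg s m hm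
    rw [Set.mem_smul_set_iff_inv_smul_mem] at hm
    have := Set.smul_mem_smul_set (a := g) (X.tr_plane s hm)
    rwa [hg, smul_sub, smul_inv_smul, ← mul_smul, ← mul_smul] at this
  -- the intersection with the plane is the axis
  have hint : ∀ g ∈ T, g • planeSet K ∩ planeSet K ⊆ axisSet K := by
    obtain ⟨g, hg, hmax⟩ := Set.exists_max_image T
      (fun g => (g • planeSet K ∩ planeSet K).ncard) (Set.toFinite _) ⟨h, hh, hne⟩
    have hA : g • planeSet K ∩ planeSet K ⊆ axisSet K := by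
      rintro ⟨u, x, y⟩ ⟨hm, hu⟩
      obtain rfl : u = 0 := hu
      refine ⟨rfl, by_contra fun (hx : x ≠ 0) => ?_⟩
      obtain ⟨v, hv, hv1⟩ : ∃ v ∈ g • planeSet K, v ∉ planeSet K := by
        by_contra hall
        push Not at hall
        exact hg.2 (Set.eq_of_subset_of_ncard_le hall (Set.ncard_smul_set g _).ge (Set.toFinite _))
      obtain ⟨v1, v2, v3⟩ := v
      have hv1' : v1 ≠ 0 := hv1
      set a := X.tr (x / v1) with ha
      have hav : a • ((v1, v2, v3) : K × K × K) ∈ g • planeSet K := by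
        have e : a • ((v1, v2, v3) : K × K × K) = (v1, v2, v3) + ((0, x, y) +
            (0, 0, 2 * (x / v1) * v2 + x / v1 * (x / v1) * v1 - y)) := by
          rw [ha, X.smul_tr]
          simp only [Prod.mk_add_mk, Prod.mk.injEq]
          refine ⟨by ring, ?_, by ring⟩
          rw [div_mul_cancel₀ x hv1']; ring
        rw [e]
        exact img_add (fun _ h _ h' => plane_add h h') hv
          (img_add (fun _ h _ h' => plane_add h h') hm (hin hg.1 ⟨rfl, rfl⟩))
      set k := g⁻¹ * a * g with hk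
      have ha1 : a • axisSet K = axisSet K := smul_eq_of_forall fun w hw => by rwa [ha, X.tr_fix_axis _ hw]
      have hk1 : k • axisSet K = axisSet K := by
        rw [hk, mul_smul, mul_smul, hg.1, ha1, inv_smul_eq_iff, hg.1]
      have hk2 : k • planeSet K = planeSet K := by
        by_contra hk2
        have hle := hmax k ⟨hk1, hk2⟩
        have hsub : insert (a • ((v1, v2, v3) : K × K × K)) (g • planeSet K ∩ planeSet K) ⊆
            (a * g) • planeSet K ∩ g • planeSet K := by
          refine Set.insert_subset ⟨?_, hav⟩ fun w hw => ⟨?_, hw.1⟩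
          · rw [mul_smul]; exact Set.smul_mem_smul_set hv
          · rw [mul_smul, Set.mem_smul_set_iff_inv_smul_mem, ha, X.tr_inv]
            simpa using img_add (fun _ h _ h' => plane_add h h') (hin hg.1 (X.tr_plane _ hw.2)) hw.1
        have hnot : a • ((v1, v2, v3) : K × K × K) ∉ g • planeSet K ∩ planeSet K := fun hw => hv1 (by
          have h' := X.tr_sub (x / v1) (v1, v2, v3)
          rw [← ha] at h'
          simpa using plane_sub hw.2 h')
        have := Set.ncard_le_ncard hsub (Set.toFinite _)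
        rw [Set.ncard_insert_of_notMem hnot (Set.toFinite _)] at this
        have e : (k • planeSet K ∩ planeSet K).ncard = ((a * g) • planeSet K ∩ g • planeSet K).ncard := by
          rw [← Set.ncard_smul_set g, Set.smul_set_inter, ← mul_smul, hk]
          congr 3
          group
        omega
      obtain ⟨s, hs⟩ := X.mem_range_of_stab (g := k) (by
        obtain ⟨j, hj⟩ := X.pow_conj g⁻¹ (x / v1)
        exact ⟨j, by rwa [inv_inv] at hj⟩) hk1 hk2
      have hd := hdev hg.1 s _ hv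
      rw [show g * X.tr s * g⁻¹ = a by rw [hs, hk]; group, ha, X.smul_tr, Prod.mk_sub_mk,
        Prod.mk_sub_mk] at hd
      have := hd.2
      simp [div_mul_cancel₀ x hv1', hx] at this
    intro g' hg'
    have e : axisSet K = g' • planeSet K ∩ planeSet K := by
      refine Set.eq_of_subset_of_ncard_le (fun v hv => ⟨hin hg'.1 hv, axis_subset hv⟩) ?_ (Set.toFinite _)
      exact (hmax g' hg').trans (Set.ncard_le_ncard hA (Set.toFinite _))
    exact e.ge
  -- a translate through a fixed point of the involution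
  obtain ⟨v, hv, hv1⟩ : ∃ v ∈ h • planeSet K, v ∉ planeSet K := by
    by_contra hall
    push Not at hall
    exact hne (Set.eq_of_subset_of_ncard_le hall (Set.ncard_smul_set h _).ge (Set.toFinite _))
  obtain ⟨v1, v2, v3⟩ := v
  have hv1' : v1 ≠ 0 := hv1
  set a := X.tr (-v2 / v1) with ha
  set g := a * h with hgdef
  have ha1 : a • axisSet K = axisSet K := smul_eq_of_forall fun w hw => by rwa [ha, X.tr_fix_axis _ hw]
  have hg1 : g • axisSet K = axisSet K := by rw [hgdef, mul_smul, hh, ha1]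
  have hgv : a • ((v1, v2, v3) : K × K × K) ∈ g • planeSet K := by
    rw [hgdef, mul_smul]; exact Set.smul_mem_smul_set hv
  have hav1 : (a • ((v1, v2, v3) : K × K × K)).1 ≠ 0 := by rwa [ha, X.smul_tr]
  have hav2 : (a • ((v1, v2, v3) : K × K × K)).2.1 = 0 := by
    rw [ha, X.smul_tr]; simp [div_mul_cancel₀ _ hv1']
  have hg : g ∈ T := ⟨hg1, fun h' => hav1 (by rw [h'] at hgv; exact hgv)⟩
  have hi1 : X.inv • axisSet K = axisSet K := smul_eq_of_forall fun w hw => by rwa [X.inv_fix_axis hw]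
  clear_value g a
  -- the plane is fixed pointwise
  have higM : X.inv • (g • planeSet K) = g • planeSet K := by
    by_contra hig
    set k := g⁻¹ * X.inv * g with hk
    have hk1 : k • axisSet K = axisSet K := by
      rw [hk, mul_smul, mul_smul, hg1, hi1, inv_smul_eq_iff, hg1]
    have hk2 : k • planeSet K ≠ planeSet K := fun h' => hig (by
      simpa [hk, ← mul_smul, ← mul_assoc] using congrArg (g • ·) h')
    set v' := a • ((v1, v2, v3) : K × K × K) with hv'
    have hfix : X.inv • v' = v' := (X.inv_fix_iff h2).2 hav2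
    have hmem : g⁻¹ • v' ∈ k • planeSet K ∩ planeSet K := by
      refine ⟨?_, Set.mem_smul_set_iff_inv_smul_mem.1 hgv⟩
      rw [hk, mul_smul, mul_smul, ← hfix]
      exact Set.smul_mem_smul_set (Set.smul_mem_smul_set hgv)
    have := Set.smul_mem_smul_set (a := g) (hint k ⟨hk1, hk2⟩ hmem)
    rw [smul_inv_smul, hg1] at this
    exact hav1 this.1
  have hfix : ∀ m ∈ g • planeSet K, X.inv • m = m := by
    intro m hm
    have hd := img_sub (fun _ h _ h' => plane_sub h h') hm
      (higM ▸ Set.smul_mem_smul_set (a := X.inv) hm)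
    obtain ⟨u, x, y⟩ := m
    rw [X.smul_inv] at hd
    have hz := hint g hg ⟨hd, by simp [mem_plane]⟩
    have hx : 2 * x = 0 := by
      have := hz.2
      simp at this
      linear_combination this
    exact (X.inv_fix_iff h2).2 ((mul_eq_zero.1 hx).resolve_left h2)
  -- the involution centralises the conjugate root group, and inverts it
  set b := g * X.tr 1 * g⁻¹ with hb
  have hbM : b • (g • planeSet K) = g • planeSet K := smul_eq_of_forall fun m hm => by
    simpa using img_add (fun _ h _ h' => plane_add h h') (hin hg1 (hdev hg1 1 m hm)) hm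
  have ht1 : X.tr 1 • axisSet K = axisSet K :=
    smul_eq_of_forall fun w hw => by rwa [X.tr_fix_axis _ hw]
  have hb1 : b • axisSet K = axisSet K := by
    rw [hb, mul_smul, mul_smul, inv_smul_eq_iff.2 hg1.symm, ht1, hg1]
  set d := g⁻¹ * (X.inv * b * X.inv) * g with hd
  obtain ⟨s, hs⟩ := X.mem_range_of_stab (g := d) (by
    obtain ⟨j, hj⟩ := X.pow_conj g 1
    refine ⟨j, ?_⟩
    have hinv : X.inv⁻¹ = X.inv := inv_eq_of_mul_eq_one_right X.inv_inv_eq
    have e : d = (g⁻¹ * X.inv) * b * (g⁻¹ * X.inv)⁻¹ := by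
      rw [hd, _root_.mul_inv_rev, inv_inv, hinv]; group
    rw [e, conj_pow, hj, mul_one, mul_inv_cancel])
    (by rw [hd, mul_smul, mul_smul, mul_smul, mul_smul, hg1, hi1, hb1, hi1, inv_smul_eq_iff, hg1])
    (by rw [hd, mul_smul, mul_smul, mul_smul, mul_smul, higM, hbM, higM, inv_smul_smul])
  have hagree : ∀ m ∈ planeSet K, X.tr s • m = X.tr 1 • m := by
    intro m hm
    have hgm : g • m ∈ g • planeSet K := Set.smul_mem_smul_set hm
    rw [hs, hd, mul_smul, mul_smul, mul_smul, mul_smul, hfix _ hgm,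
      hfix _ (hbM ▸ Set.smul_mem_smul_set hgm), hb, mul_smul, mul_smul, inv_smul_smul, inv_smul_smul]
  have hs1 : s = 1 := by
    have h := hagree (0, 1, 0) rfl
    rw [X.smul_tr, X.smul_tr] at h
    simp only [Prod.mk.injEq] at h
    have : 2 * (s - 1) = 0 := by linear_combination h.2.2
    exact sub_eq_zero.1 ((mul_eq_zero.1 this).resolve_left h2)
  have hcomm : X.inv * b * X.inv = b := by
    have h : g * d * g⁻¹ = X.inv * b * X.inv := by rw [hd]; group
    rw [← h, ← hs, hs1]
  set e : K × K × K := (0, 1, 0)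
  have hde : b • e - e ∈ g • planeSet K := by
    rw [Set.mem_smul_set_iff_inv_smul_mem, smul_sub, hb, mul_smul, mul_smul, inv_smul_smul]
    exact X.tr_sub 1 _
  have hie : X.inv • e = -e := by simp [e, X.smul_inv]
  have hneg : X.inv • (b • e - e) = -(b • e - e) := by
    have h : X.inv • (b • (X.inv • e)) = b • e := by rw [← mul_smul, ← mul_smul, hcomm]
    rw [hie, smul_neg, smul_neg] at h
    rw [smul_sub, hie, ← neg_eq_iff_eq_neg.2 h.symm]
    abel
  rw [hfix _ hde] at hneg
  have hzero : b • e = e := by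
    have h0 : (2 : K) • (b • e - e) = 0 := by
      rw [two_smul]; exact eq_neg_iff_add_eq_zero.1 hneg
    exact sub_eq_zero.1 ((smul_eq_zero.1 h0).resolve_left h2)
  have hfixed : X.tr 1 • (g⁻¹ • e) = g⁻¹ • e := by
    simpa [hb, mul_smul] using congrArg (g⁻¹ • ·) hzero
  have := Set.smul_mem_smul_set (a := g) (X.axis_of_fix h2 one_ne_zero hfixed)
  rw [smul_inv_smul, hg1] at this
  exact one_ne_zero this.2

end RootSetting

end Cfsg.Agent.Lib.SpFourExotic.Odd
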