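import Cfsg.Agent.Lib.SpFourExotic.Odd.Essential

/-!
An essential line gives a full torus in the automorphisms of the whole group.
-/

set_option autoImplicit false

namespace Cfsg.Agent.Lib.SpFourExotic.Odd

open Cfsg Cfsg.FusionSystem Cfsg.Agent.Lib.Fusion

variable {Ω : Type*} [Group Ω] {S : Subgroup Ω} {K : Type*} [Field K] {F : FusionSystem S}
  {p : ℕ} {l : K} (h2 : (2 : K) ≠ 0)

/-- The action of an automorphism of a line on its two coordinates. -/
def Act (α : MulAut (line l)) (a b c d : K) : Prop :=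
  ∀ x : line l, ((α x : line l) : U4 K).t = a * (x : U4 K).t + b * xh l (x : U4 K) ∧
    xh l ((α x : line l) : U4 K) = c * (x : U4 K).t + d * xh l (x : U4 K)

/-- It fixes the centre. -/
def FixZ (α : MulAut (line l)) : Prop := ∀ x : line l, (x : U4 K) ∈ zed K → α x = x

theorem Act.mul {α β : MulAut (line l)} {a b c d a' b' c' d' : K} (h : Act α a b c d)
    (h' : Act β a' b' c' d') :
    Act (α * β) (a * a' + b * c') (a * b' + b * d') (c * a' + d * c') (c * b' + d * d') := fun x => by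
  obtain ⟨e1, e2⟩ := h (β x)
  obtain ⟨f1, f2⟩ := h' x
  rw [MulAut.mul_apply, e1, e2, f1, f2]
  constructor <;> ring

theorem FixZ.mul {α β : MulAut (line l)} (h : FixZ α) (h' : FixZ β) : FixZ (α * β) := fun x hx => by
  rw [MulAut.mul_apply, h' x hx, h x hx]

/-- Some automorphism in the system fixing the centre acts by the given matrix. -/
def Real (F : FusionSystem S) (e : U4 K ≃* ↥S) (l a b c d : K) : Prop :=
  ∃ α : autC F e (line l), Act (α : MulAut (line l)) a b c d ∧ FixZ (α : MulAut (line l))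

theorem Real.mul {e : U4 K ≃* ↥S} {a b c d a' b' c' d' : K} (h : Real F e l a b c d)
    (h' : Real F e l a' b' c' d') :
    Real F e l (a * a' + b * c') (a * b' + b * d') (c * a' + d * c') (c * b' + d * d') := by
  obtain ⟨α, h1, h1'⟩ := h
  obtain ⟨β, h3, h3'⟩ := h'
  exact ⟨α * β, h1.mul h3, h1'.mul h3'⟩

include h2

theorem fixZ_conjAut (g : U4 K) (hg : g ∈ Subgroup.normalizer (line l : Set (U4 K))) :
    FixZ (conjAut (line l) g hg) := fun x hx => Subtype.ext (by
  rw [conjAut_apply]; exact conj_zed h2 g hx)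

theorem real_lower (e : U4 K ≃* ↥S) (s : K) : Real F e l 1 0 s 1 := by
  have hn := normalizes_of_mid_le h2 (mid_le_line l) (⟨0, -s, 0, 0⟩ : U4 K)
  refine ⟨cjC e F _ hn, fun x => ?_, fixZ_conjAut h2 _ hn⟩
  show ((⟨0, -s, 0, 0⟩ : U4 K) * x * (⟨0, -s, 0, 0⟩ : U4 K)⁻¹).t = _ ∧ xh l _ = _
  constructor
  · simp
  · show xh l ((⟨0, -s, 0, 0⟩ : U4 K) * x * (⟨0, -s, 0, 0⟩ : U4 K)⁻¹) = _
    simp [xh]; ring

theorem exists_act (α : MulAut (line l)) (hα : FixZ α) :
    ∃ a b c d, Act α a b c d ∧ a * d - b * c = 1 := by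
  have key : ∀ x y : line l,
      ((α x : line l) : U4 K).t * xh l ((α y : line l) : U4 K) -
        ((α y : line l) : U4 K).t * xh l ((α x : line l) : U4 K) =
      (x : U4 K).t * xh l (y : U4 K) - (y : U4 K).t * xh l (x : U4 K) := by
    intro x y
    set z : line l := ⟨⟨0, 0, 0, 2 * ((x : U4 K).t * xh l (y : U4 K) - (y : U4 K).t * xh l (x : U4 K))⟩,
      by simp [mem_line]⟩ with hz
    have e1 : x * y = y * x * z := Subtype.ext (line_form h2 x.2 y.2)
    have e4 : ((α x : line l) : U4 K) * ((α y : line l) : U4 K) =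
        ((α y : line l) : U4 K) * ((α x : line l) : U4 K) * (z : U4 K) := by
      have h := congrArg α e1
      rw [map_mul, map_mul, map_mul, hα z ⟨rfl, rfl, rfl⟩] at h
      exact congrArg Subtype.val h
    have e3 := congrArg U4.y (mul_left_cancel ((line_form h2 (α x).2 (α y).2).symm.trans e4))
    simp only [hz] at e3
    exact mul_left_cancel₀ h2 e3
  set u : line l := ⟨⟨1, l, l * (1 * 1) / 2, 0⟩, by simp [mem_line]⟩ with hu
  set v : line l := ⟨⟨0, 0, 1, 0⟩, by simp [mem_line]⟩ with hv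
  have huv := key u v
  simp [hu, hv, xh] at huv
  have hu' : ((u : U4 K).t = 1 ∧ xh l (u : U4 K) = 0) ∧ ((v : U4 K).t = 0 ∧ xh l (v : U4 K) = 1) := by
    simp [hu, hv, xh]
  obtain ⟨⟨u1, u2⟩, v1, v2⟩ := hu'
  have huv := key u v
  rw [u1, u2, v1, v2] at huv
  simp only [mul_one, zero_mul, sub_zero] at huv
  refine ⟨((α u : line l) : U4 K).t, ((α v : line l) : U4 K).t, xh l ((α u : line l) : U4 K),
    xh l ((α v : line l) : U4 K), fun x => ?_, huv⟩
  have ex := key u x
  have ey := key v x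
  rw [u1, u2] at ex
  rw [v1, v2] at ey
  simp only [one_mul, mul_zero, sub_zero, zero_mul, zero_sub, mul_one] at ex ey
  constructor
  · linear_combination ((α v : line l) : U4 K).t * ex - ((α u : line l) : U4 K).t * ey -
      ((α x : line l) : U4 K).t * huv
  · linear_combination xh l ((α v : line l) : U4 K) * ex - xh l ((α u : line l) : U4 K) * ey -
      xh l ((α x : line l) : U4 K) * huv

variable [Finite K] [Finite S] [hp : Fact p.Prime] [CharP K p] (e : U4 K ≃* ↥S) (hS : IsPGroup p S)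
  (hF : F.IsSaturated p)

include hS hF

/-- Some element fixing the centre moves the middle subgroup. -/
theorem exists_real_move (hE : F.IsEssential p (sub e (line l))) :
    ∃ a b c d, Real F e l a b c d ∧ b ≠ 0 ∧ a * d - b * c = 1 := by
  by_contra hall
  push Not at hall
  obtain ⟨P, hP⟩ := exists_sylow_induced e hS hF hE.2.1
  have hPfix : ∀ α ∈ (P : Subgroup (autC F e (line l))), FixZ (α : MulAut (line l)) := fun α hα => by
    rw [hP, Subgroup.mem_subgroupOf, mem_autInducedBy_normalizer] at hα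
    obtain ⟨g, hg, -, hgα⟩ := hα
    exact hgα ▸ fixZ_conjAut h2 g hg
  set M := (mid K).subgroupOf (line l)
  set Z := (zed K).subgroupOf (line l)
  have hZM : Z ≤ M := fun x hx => zed_le_mid hx
  have hmidx : ∀ x : line l, x ∈ M ↔ (x : U4 K).t = 0 := fun x =>
    ⟨fun h => (mem_mid.1 h).1, fun h => line_mid x.2 h⟩
  have hPs : ∀ α ∈ (P : Subgroup (autC F e (line l))), (α : MulAut (line l)) ∈ stab3 M Z hZM := by
    intro α hα
    rw [hP, Subgroup.mem_subgroupOf, mem_autInducedBy_normalizer] at hα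
    obtain ⟨g, hg, -, hgα⟩ := hα
    rw [hgα]
    refine ⟨fun x => ?_, fun x hx => ?_, fun x hx => fixZ_conjAut h2 g hg x hx⟩
    · rw [Subgroup.mem_subgroupOf, Subgroup.coe_mul, Subgroup.coe_inv, conjAut_apply]
      exact conj_mem_mid g _
    · rw [Subgroup.mem_subgroupOf, Subgroup.coe_mul, Subgroup.coe_inv, conjAut_apply]
      exact conj_mid_zed h2 g hx
  refine not_normal e hE P ⟨fun k hk a => ?_⟩
  rw [sylow_eq_stab3 e hS P hPs, Subgroup.mem_subgroupOf]
  set w := a * k * a⁻¹ with hw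
  have hwfix : FixZ (w : MulAut (line l)) := fun x hx => by
    have hx' := line_zed_invariant h2 l ((a⁻¹ : autC F e (line l)) : MulAut (line l)) x hx
    show (a : MulAut (line l)) ((k : MulAut (line l)) (((a⁻¹ : autC F e (line l)) : MulAut (line l)) x)) = x
    rw [hPfix k hk _ hx']
    exact (a : MulAut (line l)).apply_symm_apply x
  obtain ⟨a1, b1, c1, d1, hact, hdet⟩ := exists_act h2 (w : MulAut (line l)) hwfix
  obtain rfl : b1 = 0 := by_contra fun hb => hall _ _ _ _ ⟨w, hact, hwfix⟩ hb hdet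
  have hpow : ∀ j : ℕ, ∀ x : line l, ((((w : MulAut (line l)) ^ j) x : line l) : U4 K).t =
      a1 ^ j * (x : U4 K).t := by
    intro j
    induction j with
    | zero => intro x; simp
    | succ j ih =>
      intro x
      rw [pow_succ', MulAut.mul_apply, (hact _).1, ih, pow_succ']
      ring
  have hwp : ∃ j, w ^ p ^ j = 1 := by
    obtain ⟨j, hj⟩ := P.2 ⟨k, hk⟩
    have := congrArg Subtype.val hj
    simp only [SubmonoidClass.coe_pow, OneMemClass.coe_one] at this
    exact ⟨j, by rw [hw, conj_pow, this, mul_one, mul_inv_cancel]⟩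
  obtain ⟨j, hj⟩ := hwp
  have ha1 : a1 = 1 := by
    have h := hpow (p ^ j) ⟨⟨1, l, 0, 0⟩, by simp [mem_line]⟩
    rw [← Subgroup.coe_pow, hj] at h
    simp at h
    haveI : ExpChar K p := ExpChar.prime hp.out
    have h' : (a1 - 1) ^ p ^ j = 0 := by rw [sub_pow_expChar_pow, one_pow, ← h, sub_self]
    exact sub_eq_zero.1 ((pow_eq_zero_iff'.1 h').1)
  subst ha1
  have hd1 : d1 = 1 := by linear_combination hdet
  subst hd1
  refine ⟨fun x => ?_, fun x hx => ?_, fun x hx => hwfix x hx⟩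
  · rw [hmidx, Subgroup.coe_mul, Subgroup.coe_inv, U4.mul_t, U4.inv_t, (hact x).1]
    ring
  · obtain ⟨x1, x2⟩ := mem_mid.1 (Subgroup.mem_subgroupOf.1 hx)
    obtain ⟨e1, e2⟩ := hact x
    rw [x1] at e1 e2
    simp [xh, x1] at e1 e2
    have e3 := mem_line.1 ((w : MulAut (line l)) x).2
    rw [e1, mul_zero] at e3
    rw [Subgroup.mem_subgroupOf, Subgroup.coe_mul, Subgroup.coe_inv]
    refine ⟨by simp [x1, e1], by simp [x2, e3], ?_⟩
    simp [x1, x2, e3]
    simp [e1] at e2
    rw [e2]; ring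

/-- Every diagonal matrix is induced. -/
theorem real_diag (hE : F.IsEssential p (sub e (line l))) {r : K} (hr : r ≠ 0) :
    Real F e l r 0 0 r⁻¹ := by
  obtain ⟨a, b, c, d, hR, hb, hdet⟩ := exists_real_move h2 e hS hF hE
  have hlo := real_lower (F := F) (l := l) h2 e
  obtain ⟨w, hw⟩ : ∃ w : Unit, Real F e l 0 b (-b⁻¹) 0 := by
    refine ⟨(), ?_⟩
    have h := ((hlo (-d / b)).mul hR).mul (hlo (-a / b))
    convert h using 1
    · field_simp; ring
    · ring
    · field_simp; linear_combination hdet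
    · field_simp; ring
  have hup : ∀ s, Real F e l 1 s 0 1 := fun s => by
    have h := (((hw.mul (hlo (-s / (b * b)))).mul hw).mul hw).mul hw
    convert h using 1 <;> field_simp <;> ring
  have h := ((((hup r).mul (hlo (-r⁻¹))).mul (hup r)).mul ((hup (-1)).mul (hlo 1))).mul (hup (-1))
  convert h using 1 <;> field_simp <;> ring

/-- The torus on the whole group. -/
theorem exists_torus (hE : F.IsEssential p (sub e (line l))) {r : K} (hr : r ≠ 0) :
    ∃ β ∈ autS F e, (∀ z ∈ zed K, β z = z) ∧ (∀ a ∈ line l, β a ∈ line l) ∧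
      ∀ m ∈ mid K, β m ∈ mid K ∧ (β m).x = r⁻¹ * m.x := by
  obtain ⟨α, hact, hfix⟩ := real_diag h2 e hS hF hE hr
  obtain ⟨P, hP⟩ := exists_sylow_induced e hS hF hE.2.1
  have hmid : ∀ x ∈ (mid K).subgroupOf (line l), (α : MulAut (line l)) x ∈ (mid K).subgroupOf (line l) :=
    fun x hx => by
      refine line_mid ((α : MulAut (line l)) x).2 ?_
      show ((α : MulAut (line l)) x : U4 K).t = 0
      rw [(hact x).1, show (x : U4 K).t = 0 from (mem_mid.1 hx).1, xh]
      ring
  have hZM : (zed K).subgroupOf (line l) ≤ (mid K).subgroupOf (line l) := fun x hx => zed_le_mid hx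
  have hPs : ∀ α ∈ (P : Subgroup (autC F e (line l))), (α : MulAut (line l)) ∈ stab3 _ _ hZM := by
    intro α hα
    rw [hP, Subgroup.mem_subgroupOf, mem_autInducedBy_normalizer] at hα
    obtain ⟨g, hg, -, hgα⟩ := hα
    rw [hgα]
    refine ⟨fun x => ?_, fun x hx => ?_, fun x hx => fixZ_conjAut h2 g hg x hx⟩
    · rw [Subgroup.mem_subgroupOf, Subgroup.coe_mul, Subgroup.coe_inv, conjAut_apply]
      exact conj_mem_mid g _
    · rw [Subgroup.mem_subgroupOf, Subgroup.coe_mul, Subgroup.coe_inv, conjAut_apply]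
      exact conj_mid_zed h2 g hx
  have heq := sylow_eq_stab3 e hS P hPs
  obtain ⟨β, hβ, hβv⟩ := exists_extend e hS hF hE.2.1 (normalizes_of_mid_le h2 (mid_le_line l)) α
    fun g hg => by
      have hg' : g ∈ (P : Subgroup (autC F e (line l))) := by rw [hP, Subgroup.mem_subgroupOf]; exact hg
      suffices h : α * g * α⁻¹ ∈ (P : Subgroup (autC F e (line l))) by
        rwa [hP, Subgroup.mem_subgroupOf] at h
      rw [heq, Subgroup.mem_subgroupOf] at hg' ⊢
      exact conj_mem_stab3 (fun x => iff_of_forall hmid x)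
        (fun x => iff_of_forall (line_zed_invariant h2 l (α : MulAut (line l))) x) hg'
  refine ⟨β, hβ, fun z hz => ?_, fun a ha => ?_, fun m hm => ?_⟩
  · have := hβv ⟨z, mid_le_line l (zed_le_mid hz)⟩
    rw [hfix _ hz] at this
    exact this
  · exact hβv ⟨a, ha⟩ ▸ ((α : MulAut (line l)) ⟨a, ha⟩).2
  · set x : line l := ⟨m, mid_le_line l hm⟩
    have h1 : ((α : MulAut (line l)) x : U4 K) ∈ mid K := hmid x hm
    have h3 := (hact x).2
    rw [show β m = _ from hβv x]
    refine ⟨h1, ?_⟩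
    rw [xh, xh, (mem_mid.1 h1).1, show (x : U4 K).t = 0 from (mem_mid.1 hm).1] at h3
    simpa using h3

omit hS hF in
omit [Finite K] [Finite S] hp [CharP K p] in
/-- Automorphisms fixing the centre and scaling the middle subgroup. -/
theorem torus_formula {β : MulAut (U4 K)} {L : K} (hL : L ≠ 0) (hz : ∀ z ∈ zed K, β z = z)
    (hm : ∀ m ∈ mid K, β m ∈ mid K ∧ (β m).x = L * m.x) (a : U4 K) :
    (β a).t = L⁻¹ * a.t ∧ (β a).u = L * L * a.u + (β ⟨1, 0, 0, 0⟩).u * a.t := by
  have ht : ∀ a, (β a).t = L⁻¹ * a.t := fun a => by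
    have hm1 : (⟨0, 0, 1, 0⟩ : U4 K) ∈ mid K := mem_mid.2 ⟨rfl, rfl⟩
    have h := congrArg β (comm_y_mid h2 (a := a) hm1)
    rw [map_mul, map_mul, map_mul, map_inv, map_inv, hz ⟨0, 0, 0, 2 * a.t * (⟨0, 0, 1, 0⟩ : U4 K).x⟩ ⟨rfl, rfl, rfl⟩,
      comm_y_mid h2 (hm _ hm1).1, (hm _ hm1).2] at h
    have := congrArg U4.y h
    simp [h2] at this
    field_simp
    first | linear_combination this | linear_combination -this | grind
  refine ⟨ht a, ?_⟩
  set b : U4 K := ⟨1, 0, 0, 0⟩
  have h := (hm _ (comm_mid a b)).2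
  rw [map_mul, map_mul, map_mul, map_inv, map_inv, comm_x, comm_x, ht, ht] at h
  simp [b] at h
  field_simp at h
  linear_combination -h

end Cfsg.Agent.Lib.SpFourExotic.Odd
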