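import Cfsg.Agent.Lib.SpFourExotic.Odd.RadOne
import Cfsg.Agent.Lib.SpFourExotic.Realize

/-!
In odd characteristic a nontrivial core gives a constrained system.
-/

set_option autoImplicit false

namespace Cfsg.Agent.Lib.SpFourExotic.Odd

open Cfsg Cfsg.FusionSystem Cfsg.Agent.Lib.Fusion

variable {Ω : Type*} [Group Ω] {S : Subgroup Ω} {K : Type*} [Field K] {F : FusionSystem S}
  {p : ℕ} [Finite K] [Finite S] [hp : Fact p.Prime] [CharP K p] (e : U4 K ≃* ↥S)
  (hS : IsPGroup p S) (hF : F.IsSaturated p)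

include e hS hF

/-- At most one subgroup is essential. -/
theorem essential_unique (h2 : (2 : K) ≠ 0) (hp2 : p ≠ 2) (hcore : F.core ≠ ⊥) :
    (∀ E, ¬ F.IsEssential p E) ∨ ∃ R : Subgroup (U4 K), F.IsEssential p (sub e R) ∧
      (∀ β ∈ autS F e, ∀ a ∈ R, β a ∈ R) ∧ ∀ E, F.IsEssential p E → E = sub e R := by
  have hcases : ∀ E, F.IsEssential p E →
      E = sub e (rad1 K) ∨ ∃ l : K, E = sub e (line l) := by
    intro E hE
    obtain ⟨R, rfl, rfl | ⟨l, rfl⟩ | ⟨l, m, rfl⟩⟩ := essential_cases h2 e hS hF hE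
    · exact Or.inl rfl
    · exact Or.inr ⟨l, rfl⟩
    · exact absurd (false_of_ab e hS hF h2 hcore hE) id
  by_cases h1 : F.IsEssential p (sub e (rad1 K))
  · refine Or.inr ⟨_, h1, fun β _ a ha => rad1_map h2 β ha, fun E hE => ?_⟩
    rcases hcases E hE with h | ⟨l, rfl⟩
    · exact h
    · exact absurd (false_of_rad1_line h2 hp2 hS hF hcore h1 hE) id
  by_cases hl : ∃ l : K, F.IsEssential p (sub e (line l))
  swap
  · refine Or.inl fun E hE => ?_
    rcases hcases E hE with rfl | ⟨l, rfl⟩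
    exacts [h1 hE, hl ⟨l, hE⟩]
  obtain ⟨l, hl⟩ := hl
  refine Or.inr ⟨_, hl, fun β hβ => line_map h2 e hS hF hl hβ, fun E hE => ?_⟩
  rcases hcases E hE with rfl | ⟨m, rfl⟩
  · exact absurd hE h1
  have hflip : ∀ {l : K}, F.IsEssential p (sub e (line l)) → ∃ β, IsFlip F e l β := fun {l} hl => by
    obtain ⟨f, hf, hfz, hfl, hfm⟩ :=
      exists_torus h2 e hS hF hl (r := (-1 : K)) (neg_ne_zero.2 one_ne_zero)
    exact ⟨f, hf, hfz, hfl, fun a ha => ⟨(hfm a ha).1, by rw [(hfm a ha).2]; norm_num⟩⟩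
  obtain ⟨β, hβ⟩ := hflip hl
  obtain ⟨β', hβ'⟩ := hflip hE
  rw [hβ.eq h2 e hS hF hβ']

/-- A nontrivial core gives a constrained system. -/
theorem isConstrained_odd (hp2 : p ≠ 2) (hcore : F.core ≠ ⊥) : F.IsConstrained p := by
  have h2 : (2 : K) ≠ 0 := Ring.two_ne_zero (by rw [ringChar.eq K p]; exact hp2)
  have htop : F.IsCentric S := ⟨le_rfl, by
    rintro Q ⟨φ, hφ, rfl⟩
    rw [range_eq_self hφ (val_mem hφ)]
    exact inf_le_left⟩
  have hstop : ∀ α ∈ F.autGroup S, (S.subgroupOf S).map α.toMonoidHom = S.subgroupOf S := fun α _ => by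
    rw [Subgroup.subgroupOf_self]
    exact Subgroup.map_top_of_surjective _ α.surjective
  rcases essential_unique e hS hF h2 hp2 hcore with hnone | ⟨R, hR, hinv, huniq⟩
  · refine ⟨hF, S, isNormal_of_aut hS hF ?_, htop⟩
    rintro P (rfl | hP)
    · exact ⟨le_rfl, hstop⟩
    · exact absurd hP (hnone P)
  refine ⟨hF, sub e R, isNormal_of_aut hS hF ?_, hR.1⟩
  rintro P (rfl | hP)
  · refine ⟨sub_le e R, fun α hα => ?_⟩
    refine Subgroup.eq_of_le_of_card_ge ?_ (Subgroup.card_map_of_injective α.injective).ge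
    rintro _ ⟨x, hx, rfl⟩
    obtain ⟨a, ha, hax⟩ := (mem_sub e).1 (Subgroup.mem_subgroupOf.1 hx)
    have hβ : (MulAut.congr e).symm α ∈ autS F e := by
      show MulAut.congr e ((MulAut.congr e).symm α) ∈ F.autGroup _
      rwa [MulEquiv.apply_symm_apply]
    have h := hinv _ hβ a ha
    obtain rfl : e a = x := Subtype.ext hax
    rw [Subgroup.mem_subgroupOf]
    show (α (e a) : Ω) ∈ sub e R
    refine (mem_sub e).2 ⟨_, h, ?_⟩
    simp [el, MulAut.congr]
  · rw [huniq P hP]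
    refine ⟨le_rfl, fun α _ => ?_⟩
    rw [Subgroup.subgroupOf_self]
    exact Subgroup.map_top_of_surjective _ α.surjective

/-- The odd case: a nontrivial core gives a realisable system. -/
theorem isRealizable_odd (hp2 : p ≠ 2) (hcore : F.core ≠ ⊥) : F.IsRealizable p := by
  obtain ⟨L, iL, fL, ι, hL⟩ :=
    exists_model_of_isConstrained hS (isConstrained_odd e hS hF hp2 hcore)
  exact ⟨L, iL, fL, ι, hL.2.1, hL.2.2.1⟩

end Cfsg.Agent.Lib.SpFourExotic.Odd
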