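import Cfsg.Agent.Lib.SpFourExotic.Odd.Intersect
import Mathlib.GroupTheory.GroupAction.Quotient
import Mathlib.GroupTheory.Perm.Cycle.Type

/-!
Fixed spaces through a maximal intersection: the members fixed by the involution, and the orders
of the groups permuting them.
-/

set_option autoImplicit false

namespace Cfsg.Agent.Lib.SpFourExotic.Odd

open scoped Pointwise

variable {K : Type*} [Field K] {p : ℕ} {G : Type*} [Group G] [DistribMulAction G (K × K × K)]

namespace RootSetting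

/-- A pair of fixed spaces with the largest intersection. -/
structure MaxPair (X : RootSetting (K := K) p G) where
  g0 : G
  two_ne : (2 : K) ≠ 0
  ne : g0 • axisSet K ≠ axisSet K
  max : ∀ g : G, g • axisSet K ≠ axisSet K →
    (axisSet K ∩ g • axisSet K).ncard ≤ (axisSet K ∩ g0 • axisSet K).ncard

variable (X : RootSetting (K := K) p G)

/-- The intersection. -/
def MaxPair.W {X : RootSetting (K := K) p G} (D : MaxPair X) : Set (K × K × K) :=
  axisSet K ∩ D.g0 • axisSet K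

variable [Finite G] [Finite K] [hp : Fact p.Prime]

include X in
theorem exists_maxPair (h2 : (2 : K) ≠ 0) : Nonempty (MaxPair X) := by
  obtain ⟨g, hg⟩ : ∃ g : G, g • axisSet K ≠ axisSet K := by
    by_contra hall
    push Not at hall
    refine X.not_normal ⟨fun a ha g => ?_⟩
    obtain ⟨s, rfl⟩ := X.exists_tr ha
    rw [← SetLike.mem_coe, X.range_tr]
    exact X.mem_range_of_stab (X.pow_conj g s) (hall _) (X.plane_of_axis h2 (hall _))
  obtain ⟨g0, hg0, hmax⟩ := Set.exists_max_image {g : G | g • axisSet K ≠ axisSet K}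
    (fun g => (axisSet K ∩ g • axisSet K).ncard) (Set.toFinite _) ⟨g, hg⟩
  exact ⟨⟨g0, h2, hg0, hmax⟩⟩

namespace MaxPair

variable {X} (D : MaxPair X)

/-- The members: fixed spaces through the intersection, fixed by the involution. -/
def Mem (Z : Set (K × K × K)) : Prop :=
  (∃ g : G, g • axisSet K = Z) ∧ D.W ⊆ Z ∧ ∀ v ∈ Z, v.2.1 = 0

omit [Finite G] [Finite K] hp in
theorem W_axis {v : K × K × K} (hv : v ∈ D.W) : v ∈ axisSet K := hv.1

omit [Finite G] [Finite K] hp in
theorem w0_mem : ((0, 0, X.w0) : K × K × K) ∈ D.W :=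
  ⟨⟨rfl, rfl⟩, Set.mem_smul_set_iff_inv_smul_mem.2 (X.w0_fixed _)⟩

omit [Finite G] [Finite K] hp in
theorem mem_axisSet : D.Mem (axisSet K) :=
  ⟨⟨1, one_smul _ _⟩, fun _ h => h.1, fun _ h => h.2⟩

omit [Finite G] [Finite K] hp in
theorem tr_subset (s : K) {Z : Set (K × K × K)} (hW : D.W ⊆ Z) : D.W ⊆ X.tr s • Z := fun v hv => by
  rw [← X.tr_fix_axis s (D.W_axis hv)]
  exact Set.smul_mem_smul_set (hW hv)

theorem pair {g h : G} (hne : g • axisSet K ≠ h • axisSet K) (hg : D.W ⊆ g • axisSet K)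
    (hh : D.W ⊆ h • axisSet K) : g • axisSet K ∩ h • axisSet K = D.W := by
  refine (Set.eq_of_subset_of_ncard_le (Set.subset_inter hg hh) ?_ (Set.toFinite _)).symm
  have hne' : (g⁻¹ * h) • axisSet K ≠ axisSet K := fun h' => hne (by
    rw [mul_smul, inv_smul_eq_iff] at h'; exact h'.symm)
  refine le_trans (le_of_eq ?_) (D.max _ hne')
  rw [← Set.ncard_smul_set g⁻¹, Set.smul_set_inter, inv_smul_smul, ← mul_smul]

include D in
theorem stab_eq_one {g : G} (hne : g • axisSet K ≠ axisSet K) {s : K}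
    (hs : (X.tr s * g) • axisSet K = g • axisSet K) : s = 0 := by
  by_contra hs0
  have hk : (g⁻¹ * X.tr s * g) • axisSet K = axisSet K := by
    rw [mul_assoc, mul_smul, hs, inv_smul_smul]
  obtain ⟨r, hr⟩ := X.mem_range_of_stab (g := g⁻¹ * X.tr s * g) (by
    simpa using X.pow_conj g⁻¹ s) hk (X.plane_of_axis D.two_ne hk)
  refine hne (smul_eq_of_forall fun v hv => X.axis_of_fix D.two_ne hs0 ?_)
  have := X.tr_fix_axis r hv
  rw [hr, mul_smul, mul_smul, inv_smul_eq_iff] at this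
  exact this

theorem axis_of_plane {g : G} (hne : g • axisSet K ≠ axisSet K) (hW : D.W ⊆ g • axisSet K)
    {v : K × K × K} (hv : v ∈ g • axisSet K) (h0 : v.1 = 0) : v ∈ D.W := by
  suffices hx : v.2.1 = 0 by
    rw [← D.pair (g := 1) (h := g) (by rw [one_smul]; exact hne.symm) (by rw [one_smul]; exact fun _ h => h.1) hW,
      one_smul]
    exact ⟨⟨h0, hx⟩, hv⟩
  obtain ⟨u, x, y⟩ := v
  obtain rfl : u = 0 := h0
  by_contra (hx : x ≠ 0)
  set s := X.w0 / (2 * x) with hs
  have hs0 : s ≠ 0 := div_ne_zero X.w0_ne (mul_ne_zero D.two_ne hx)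
  have hav : X.tr s • ((0, x, y) : K × K × K) = (0, x, y) + (0, 0, X.w0) := by
    rw [X.smul_tr]
    simp only [Prod.mk_add_mk, mul_zero, add_zero, zero_add, Prod.mk.injEq, true_and]
    rw [hs]
    field_simp [D.two_ne]
  have hmem : X.tr s • ((0, x, y) : K × K × K) ∈ g • axisSet K := by
    rw [hav]
    exact img_add (fun _ h _ h' => axis_add h h') hv (hW D.w0_mem)
  refine hs0 (D.stab_eq_one hne (by_contra fun h => ?_))
  have hp := D.pair h (by rw [mul_smul]; exact D.tr_subset s hW) hW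
  have hmem' : X.tr s • ((0, x, y) : K × K × K) ∈ D.W := by
    rw [← hp, mul_smul]
    exact ⟨Set.smul_mem_smul_set hv, hmem⟩
  have := (D.W_axis hmem').2
  rw [X.smul_tr] at this
  simp at this
  exact hx this

theorem exists_translate {g : G} (hne : g • axisSet K ≠ axisSet K) (hW : D.W ⊆ g • axisSet K) :
    ∃ s, D.Mem (X.tr s • (g • axisSet K)) := by
  obtain ⟨v, hv, hv0⟩ : ∃ v ∈ g • axisSet K, v ∉ axisSet K := by
    by_contra hall
    push Not at hall
    exact hne (Set.eq_of_subset_of_ncard_le hall (Set.ncard_smul_set g _).ge (Set.toFinite _))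
  have hu : v.1 ≠ 0 := fun h => hv0 (D.W_axis (D.axis_of_plane hne hW hv h))
  obtain ⟨u, x, y⟩ := v
  change u ≠ 0 at hu
  set a := X.tr (-x / u) with ha
  refine ⟨-x / u, ⟨a * g, mul_smul _ _ _⟩, D.tr_subset _ hW, ?_⟩
  rw [← ha, ← mul_smul]
  set h := a * g with hh
  have hWh : D.W ⊆ h • axisSet K := by rw [hh, mul_smul]; exact D.tr_subset _ hW
  set v1 := a • ((u, x, y) : K × K × K) with hv1
  have hv1m : v1 ∈ h • axisSet K := by rw [hh, mul_smul]; exact Set.smul_mem_smul_set hv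
  have hv1u : v1.1 ≠ 0 := by rwa [hv1, ha, X.smul_tr]
  have hv1x : v1.2.1 = 0 := by rw [hv1, ha, X.smul_tr]; simp [div_mul_cancel₀ _ hu]
  have hfix : X.inv • v1 = v1 := (X.inv_fix_iff D.two_ne).2 hv1x
  have hhne : h • axisSet K ≠ axisSet K := fun h' => hv1u (by rw [h'] at hv1m; exact hv1m.1)
  have hinv : (X.inv * h) • axisSet K = h • axisSet K := by
    by_contra hih
    have hp := D.pair hih (fun w hw => by
      rw [mul_smul, ← X.inv_fix_axis (D.W_axis hw)]
      exact Set.smul_mem_smul_set (hWh hw)) hWh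
    have : v1 ∈ D.W := by
      rw [← hp, mul_smul]
      exact ⟨hfix ▸ Set.smul_mem_smul_set hv1m, hv1m⟩
    exact hv1u (D.W_axis this).1
  intro w hw
  have hd : w - X.inv • w ∈ h • axisSet K := img_sub (fun _ h _ h' => axis_sub h h') hw
    (by rw [← hinv, mul_smul]; exact Set.smul_mem_smul_set hw)
  obtain ⟨w1, w2, w3⟩ := w
  rw [X.smul_inv] at hd
  have hz := (D.W_axis (D.axis_of_plane hhne hWh hd (by simp))).2
  simp at hz
  have : 2 * w2 = 0 := by linear_combination hz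
  exact (mul_eq_zero.1 this).resolve_left D.two_ne

theorem tr_unique {Z : Set (K × K × K)} (hZ : D.Mem Z) (hne : Z ≠ axisSet K) {s : K}
    (hs : D.Mem (X.tr s • Z)) : s = 0 := by
  obtain ⟨⟨g, rfl⟩, hW, hx⟩ := hZ
  obtain ⟨v, hv, hv0⟩ : ∃ v ∈ g • axisSet K, v ∉ axisSet K := by
    by_contra hall
    push Not at hall
    exact hne (Set.eq_of_subset_of_ncard_le hall (Set.ncard_smul_set g _).ge (Set.toFinite _))
  have hu : v.1 ≠ 0 := fun h => hv0 (D.W_axis (D.axis_of_plane hne hW hv h))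
  have h1 := hs.2.2 _ (Set.smul_mem_smul_set hv)
  have h0 := hx v hv
  obtain ⟨u, x, y⟩ := v
  change x = 0 at h0
  change u ≠ 0 at hu
  simpa [X.smul_tr, h0, hu] using h1

/-- The group fixing the intersection. -/
def L : Subgroup G := fixingSubgroup G D.W

omit [Finite G] [Finite K] hp in
theorem mem_L {g : G} : g ∈ D.L ↔ ∀ v ∈ D.W, g • v = v := mem_fixingSubgroup_iff G

omit [Finite G] [Finite K] hp in
theorem tr_mem_L (s : K) : X.tr s ∈ D.L := D.mem_L.2 fun _ hv => X.tr_fix_axis s (D.W_axis hv)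

/-- The centraliser of the involution in it. -/
def H : Subgroup G := D.L ⊓ Subgroup.centralizer {X.inv}

omit [Finite G] [Finite K] hp in
theorem mem_H {g : G} : g ∈ D.H ↔ (∀ v ∈ D.W, g • v = v) ∧ g * X.inv = X.inv * g := by
  rw [H, Subgroup.mem_inf, D.mem_L, Subgroup.mem_centralizer_singleton_iff]

/-- Every fixed space through the intersection is the image under a fixing element. -/
theorem exists_L {g : G} (hW : D.W ⊆ g • axisSet K) :
    ∃ l ∈ D.L, l • axisSet K = g • axisSet K := by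
  have hP : (X.P : Subgroup G) ≤ D.L := fun a ha => by
    obtain ⟨s, rfl⟩ := X.exists_tr ha
    exact D.tr_mem_L s
  have hgP : ((g • X.P : Sylow p G) : Subgroup G) ≤ D.L := by
    rw [Sylow.coe_subgroup_smul]
    rintro _ ⟨a, ha, rfl⟩
    obtain ⟨s, rfl⟩ := X.exists_tr ha
    refine D.mem_L.2 fun v hv => ?_
    show (g * X.tr s * g⁻¹) • v = v
    rw [mul_smul, mul_smul, X.tr_fix_axis s (Set.mem_smul_set_iff_inv_smul_mem.1 (hW hv)),
      smul_inv_smul]
  obtain ⟨l, hl⟩ := MulAction.exists_smul_eq D.L (X.P.subtype hP) ((g • X.P).subtype hgP)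
  refine ⟨l, l.2, ?_⟩
  obtain ⟨s, hs⟩ : ∃ s, X.tr s = (g⁻¹ * (l : G)) * X.tr 1 * (g⁻¹ * (l : G))⁻¹ := by
    refine X.exists_tr ?_
    have h1 : (⟨X.tr 1, hP (X.tr_mem 1)⟩ : D.L) ∈
        ((X.P.subtype hP : Sylow p D.L) : Subgroup D.L) := by
      rw [Sylow.coe_subtype, Subgroup.mem_subgroupOf]; exact X.tr_mem 1
    have h2 : l * ⟨X.tr 1, hP (X.tr_mem 1)⟩ * l⁻¹ ∈
        (((g • X.P).subtype hgP : Sylow p D.L) : Subgroup D.L) := by
      rw [← hl, Sylow.coe_subgroup_smul]; exact ⟨_, h1, rfl⟩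
    rw [Sylow.coe_subtype, Subgroup.mem_subgroupOf, Sylow.coe_subgroup_smul] at h2
    obtain ⟨a, ha, hag⟩ := h2
    have hag' : g * a * g⁻¹ = (l : G) * X.tr 1 * (l : G)⁻¹ := hag
    suffices e : g⁻¹ * (l : G) * X.tr 1 * (g⁻¹ * (l : G))⁻¹ = a by rw [e]; exact ha
    calc g⁻¹ * (l : G) * X.tr 1 * (g⁻¹ * (l : G))⁻¹ = g⁻¹ * ((l : G) * X.tr 1 * (l : G)⁻¹) * g := by
          group
      _ = a := by rw [← hag']; group
  have h : (g⁻¹ * (l : G))⁻¹ • axisSet K = axisSet K := by
    refine smul_eq_of_forall fun v hv => X.axis_of_fix D.two_ne (one_ne_zero (α := K)) ?_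
    have := congrArg ((g⁻¹ * (l : G))⁻¹ • ·) (X.tr_fix_axis s hv)
    rw [hs] at this
    simpa [mul_smul] using this
  rwa [inv_smul_eq_iff, mul_smul, eq_inv_smul_iff, eq_comm] at h

include D in
theorem inv_eq {g : G} (hne : g ≠ 1) (hsq : g * g = 1) (hfix : ∀ v ∈ axisSet K, g • v = v) :
    ∃ s, g = X.tr s * X.inv * (X.tr s)⁻¹ := by
  have hA : g • axisSet K = axisSet K := smul_eq_of_forall fun v hv => by rwa [hfix v hv]
  have hM := X.plane_of_axis D.two_ne hA
  have hgp : ∀ v ∈ planeSet K, g • v ∈ planeSet K := fun v hv =>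
    hM ▸ Set.smul_mem_smul_set hv
  have hgi : g⁻¹ = g := inv_eq_of_mul_eq_one_right hsq
  -- conjugation of the root group
  have hnorm : ∀ t, ∃ t', g * X.tr t * g⁻¹ = X.tr t' := fun t => by
    have ht : X.tr t • axisSet K = axisSet K :=
      smul_eq_of_forall fun v hv => by rwa [X.tr_fix_axis t hv]
    have h1 : (g * X.tr t * g⁻¹) • axisSet K = axisSet K := by
      rw [mul_smul, mul_smul, inv_smul_eq_iff.2 hA.symm, ht, hA]
    obtain ⟨t', ht⟩ := X.mem_range_of_stab (X.pow_conj g t) h1 (X.plane_of_axis D.two_ne h1)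
    exact ⟨t', ht.symm⟩
  choose c hc using hnorm
  set d := (g • ((0, 1, 0) : K × K × K)).2.1 with hd
  have hlin : ∀ t x : K, t * x = c t * (g • ((0, x, 0) : K × K × K)).2.1 := by
    intro t x
    have h : g • X.tr t • ((0, x, 0) : K × K × K) = X.tr (c t) • g • ((0, x, 0) : K × K × K) := by
      rw [← hc, ← mul_smul, ← mul_smul, inv_mul_cancel_right]
    have e : X.tr t • ((0, x, 0) : K × K × K) = (0, x, 0) + (0, 0, 2 * t * x) := by
      rw [X.smul_tr]; simp
    rw [e, smul_add, hfix (0, 0, 2 * t * x) ⟨rfl, rfl⟩] at h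
    obtain ⟨hu, -⟩ : (g • ((0, x, 0) : K × K × K)).1 = 0 ∧ True := ⟨hgp _ rfl, trivial⟩
    rcases hgx : g • ((0, x, 0) : K × K × K) with ⟨a, b, c'⟩
    rw [hgx] at h hu
    obtain rfl : a = 0 := hu
    rw [X.smul_tr] at h
    simp only [Prod.mk_add_mk, Prod.mk.injEq, mul_zero, add_zero] at h
    refine mul_left_cancel₀ D.two_ne ?_
    linear_combination h.2.2
  have hd0 : d ≠ 0 := fun h => by
    have := hlin 1 1
    rw [← hd, h, mul_zero, one_mul] at this
    exact one_ne_zero this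
  have hc' : ∀ t, c t = t / d := fun t => by
    rw [eq_div_iff hd0, hd, ← hlin t 1, mul_one]
  have hx : ∀ x : K, (g • ((0, x, 0) : K × K × K)).2.1 = d * x := fun x => by
    have := hlin 1 x
    rw [hc', one_mul, div_mul_eq_mul_div, one_mul, eq_div_iff hd0] at this
    linear_combination -this
  have hdd : d * d = 1 := by
    have hm : ∀ v ∈ planeSet K, (g • v).2.1 = d * v.2.1 := by
      rintro ⟨u, x, y⟩ hu
      obtain rfl : u = 0 := hu
      rw [show ((0, x, y) : K × K × K) = (0, x, 0) + (0, 0, y) by simp, smul_add,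
        hfix (0, 0, y) ⟨rfl, rfl⟩]
      simp [hx]
    have h := hm _ (hgp (0, 1, 0) rfl)
    rw [← mul_smul, hsq, one_smul, ← hd] at h
    exact h.symm
  have htop : ∀ u : K, (g • ((u, 0, 0) : K × K × K)).1 = u := by
    intro u
    have h : g • X.tr 1 • ((u, 0, 0) : K × K × K) = X.tr (c 1) • g • ((u, 0, 0) : K × K × K) := by
      rw [← hc, ← mul_smul, ← mul_smul, inv_mul_cancel_right]
    have e : X.tr 1 • ((u, 0, 0) : K × K × K) = (u, 0, 0) + (0, u, 0) + (0, 0, u) := by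
      rw [X.smul_tr]; simp
    rw [e, smul_add, smul_add, hfix (0, 0, u) ⟨rfl, rfl⟩] at h
    have hu0 : (g • ((0, u, 0) : K × K × K)).1 = 0 := hgp _ rfl
    rcases hgu : g • ((u, 0, 0) : K × K × K) with ⟨a, b, c'⟩
    rw [hgu, X.smul_tr, hc'] at h
    have := congrArg (fun v : K × K × K => v.2.1) h
    simp [hx] at this
    show a = u
    field_simp at this
    linear_combination -this + u * hdd
  rcases mul_self_eq_one_iff.1 hdd with h1 | h1
  · exfalso
    obtain ⟨s, hs⟩ : g ∈ Set.range X.tr := by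
      refine X.chain g (fun v => ?_) (fun v hv => ?_) hfix
      · obtain ⟨u, x, y⟩ := v
        rw [show ((u, x, y) : K × K × K) = (u, 0, 0) + (0, x, y) by simp, smul_add]
        have : (g • ((0, x, y) : K × K × K)).1 = 0 := hgp _ rfl
        simp [mem_plane, htop, this]
      · obtain ⟨u, x, y⟩ := v
        obtain rfl : u = 0 := hv
        have h0 : (g • ((0, x, y) : K × K × K)).1 = 0 := hgp _ rfl
        refine ⟨by simp [h0], ?_⟩
        rw [show ((0, x, y) : K × K × K) = (0, x, 0) + (0, 0, y) by simp, smul_add,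
          hfix (0, 0, y) ⟨rfl, rfl⟩]
        simp [hx, h1]
    refine hne ?_
    rw [← hs, ← X.tr_add, ← X.tr_zero] at hsq
    have : 2 * s = 0 := by
      by_contra h
      have h' := X.axis_of_fix (v := (1, 0, 0)) D.two_ne (s := s + s) (by rwa [two_mul] at h)
        (by rw [hsq, X.tr_zero, one_smul])
      exact one_ne_zero h'.1
    rw [← hs, (mul_eq_zero.1 this).resolve_left D.two_ne, X.tr_zero]
  obtain ⟨r, hr⟩ : g * X.inv ∈ Set.range X.tr := by
    refine X.chain _ (fun v => ?_) (fun v hv => ?_) fun v hv => by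
      rw [mul_smul, X.inv_fix_axis hv, hfix v hv]
    · obtain ⟨u, x, y⟩ := v
      rw [mul_smul, X.smul_inv, show ((u, -x, y) : K × K × K) = (u, 0, 0) + (0, -x, y) by simp,
        smul_add]
      have : (g • ((0, -x, y) : K × K × K)).1 = 0 := hgp _ rfl
      simp [mem_plane, htop, this]
    · obtain ⟨u, x, y⟩ := v
      obtain rfl : u = 0 := hv
      rw [mul_smul, X.smul_inv]
      have h0 : (g • ((0, -x, y) : K × K × K)).1 = 0 := hgp _ rfl
      refine ⟨by simp [h0], ?_⟩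
      rw [show ((0, -x, y) : K × K × K) = (0, -x, 0) + (0, 0, y) by simp, smul_add,
        hfix (0, 0, y) ⟨rfl, rfl⟩]
      simp [hx, h1]
  haveI : NeZero (2 : K) := ⟨D.two_ne⟩
  refine ⟨r / 2, ?_⟩
  have e : X.inv * X.tr (-(r / 2)) = X.tr (r / 2) * X.inv := by
    have := X.inv_tr (-(r / 2))
    rw [neg_neg] at this
    conv_rhs => rw [← this]
    rw [mul_assoc _ X.inv X.inv, X.inv_inv_eq, mul_one]
  rw [X.tr_inv, mul_assoc, e, ← mul_assoc, ← X.tr_add, add_halves, hr, mul_assoc, X.inv_inv_eq,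
    mul_one]

include D in
theorem inv_ne_one : X.inv ≠ 1 := fun h => by
  have := congrArg (fun g : G => g • ((0, 1, 0) : K × K × K)) h
  simp [X.smul_inv] at this
  exact D.two_ne (by linear_combination -this)

theorem exists_H {Z : Set (K × K × K)} (hZ : D.Mem Z) : ∃ k ∈ D.H, k • axisSet K = Z := by
  obtain ⟨⟨g, rfl⟩, hW, hx⟩ := hZ
  obtain ⟨l, hl, hlg⟩ := D.exists_L hW
  rw [← hlg] at hx ⊢
  obtain ⟨s, hs⟩ := D.inv_eq (g := l⁻¹ * X.inv * l) (fun h => D.inv_ne_one (by
      calc X.inv = l * (l⁻¹ * X.inv * l) * l⁻¹ := by group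
        _ = 1 := by rw [h, mul_one, mul_inv_cancel]))
    (by rw [show l⁻¹ * X.inv * l * (l⁻¹ * X.inv * l) = l⁻¹ * (X.inv * X.inv) * l by group,
      X.inv_inv_eq, mul_one, inv_mul_cancel])
    (fun v hv => by
      rw [mul_smul, mul_smul, (X.inv_fix_iff D.two_ne).2 (hx _ (Set.smul_mem_smul_set hv)),
        inv_smul_smul])
  refine ⟨l * X.tr s, ⟨D.L.mul_mem hl (D.tr_mem_L s), Subgroup.mem_centralizer_singleton_iff.2 ?_⟩, ?_⟩
  · have h : X.inv = l * (X.tr s * X.inv * (X.tr s)⁻¹) * l⁻¹ := by rw [← hs]; group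
    conv_rhs => rw [h]
    group
  · have ht : X.tr s • axisSet K = axisSet K :=
      smul_eq_of_forall fun v hv => by rwa [X.tr_fix_axis s hv]
    rw [mul_smul, ht]

theorem smul_mem {k : G} (hk : k ∈ D.H) {Z : Set (K × K × K)} (hZ : D.Mem Z) : D.Mem (k • Z) := by
  obtain ⟨hk1, hk2⟩ := D.mem_H.1 hk
  obtain ⟨⟨g, rfl⟩, hW, hx⟩ := hZ
  refine ⟨⟨k * g, mul_smul _ _ _⟩, fun v hv => hk1 v hv ▸ Set.smul_mem_smul_set (hW hv), ?_⟩
  rintro _ ⟨v, hv, rfl⟩
  refine (X.inv_fix_iff D.two_ne).1 ?_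
  show X.inv • k • v = k • v
  rw [← mul_smul, ← hk2, mul_smul, (X.inv_fix_iff D.two_ne).2 (hx v hv)]

include hp in
theorem not_dvd_card_H : ¬ p ∣ Nat.card D.H := by
  intro hdvd
  obtain ⟨⟨h, hh⟩, hord⟩ := exists_prime_orderOf_dvd_card' p hdvd
  rw [Subgroup.orderOf_mk] at hord
  obtain ⟨hW, hcomm⟩ := D.mem_H.1 hh
  have hzp : IsPGroup p (Subgroup.zpowers h) :=
    IsPGroup.of_card (n := 1) (by rw [Nat.card_zpowers, hord, pow_one])
  obtain ⟨Q, hQ⟩ := hzp.exists_le_sylow
  obtain ⟨g, rfl⟩ := MulAction.exists_smul_eq G X.P Q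
  obtain ⟨a, ha, hag⟩ : ∃ a ∈ (X.P : Subgroup G), g * a * g⁻¹ = h := by
    have := hQ (Subgroup.mem_zpowers h)
    rw [Sylow.coe_subgroup_smul] at this
    exact this
  obtain ⟨s, rfl⟩ := X.exists_tr ha
  have hh1 : h ≠ 1 := fun h' => hp.out.ne_one (by rw [← hord, h', orderOf_one])
  have hs : s ≠ 0 := fun h' => hh1 (by rw [← hag, h', X.tr_zero, mul_one, mul_inv_cancel])
  have hfix : ∀ v, h • v = v ↔ v ∈ g • axisSet K := fun v => by
    rw [← hag, mul_smul, mul_smul, smul_eq_iff_eq_inv_smul, Set.mem_smul_set_iff_inv_smul_mem]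
    exact ⟨X.axis_of_fix D.two_ne hs, X.tr_fix_axis s⟩
  have hWg : D.W ⊆ g • axisSet K := fun v hv => (hfix v).1 (hW v hv)
  have hig : ∀ v ∈ g • axisSet K, X.inv • v ∈ g • axisSet K := fun v hv => (hfix _).1 (by
    rw [← mul_smul, hcomm, mul_smul, (hfix v).2 hv])
  by_cases hA : g • axisSet K = axisSet K
  · obtain ⟨r, hr⟩ := X.mem_range_of_stab (g := h) ⟨1, by rw [pow_one, ← hord]; exact pow_orderOf_eq_one h⟩
      (smul_eq_of_forall fun v hv => by rwa [(hfix v).2 (hA.symm ▸ hv)])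
      (X.plane_of_axis D.two_ne (smul_eq_of_forall fun v hv => by rwa [(hfix v).2 (hA.symm ▸ hv)]))
    subst hr
    have h' : X.tr r = X.tr (-r) := by
      rw [← X.inv_tr, ← hcomm, mul_assoc, X.inv_inv_eq, mul_one]
    have h0 := X.smul_tr r 1 0 0
    rw [h', X.smul_tr] at h0
    simp at h0
    have : 2 * r = 0 := by linear_combination -h0
    exact hh1 (by rw [(mul_eq_zero.1 this).resolve_left D.two_ne, X.tr_zero])
  have hmem : D.Mem (g • axisSet K) := by
    refine ⟨⟨g, rfl⟩, hWg, fun v hv => ?_⟩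
    have hd := img_sub (fun _ h _ h' => axis_sub h h') hv (hig v hv)
    obtain ⟨u, x, y⟩ := v
    rw [X.smul_inv] at hd
    have hz := (D.W_axis (D.axis_of_plane hA hWg hd (by simp))).2
    simp at hz
    have : 2 * x = 0 := by linear_combination hz
    exact (mul_eq_zero.1 this).resolve_left D.two_ne
  obtain ⟨k, hk, hkZ⟩ := D.exists_H hmem
  set h' := k⁻¹ * h * k with hh'
  have hfix' : ∀ v ∈ axisSet K, h' • v = v := fun v hv => by
    rw [hh', mul_smul, mul_smul, (hfix _).2 (hkZ ▸ Set.smul_mem_smul_set hv), inv_smul_smul]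
  have hA' : h' • axisSet K = axisSet K := smul_eq_of_forall fun v hv => by rwa [hfix' v hv]
  obtain ⟨r, hr⟩ := X.mem_range_of_stab (g := h') (by
    refine ⟨1, ?_⟩
    rw [hh', show k⁻¹ * h * k = k⁻¹ * h * k⁻¹⁻¹ by group, conj_pow, pow_one, ← hord,
      pow_orderOf_eq_one]
    group) hA' (X.plane_of_axis D.two_ne hA')
  have hc' : h' ∈ D.H := D.H.mul_mem (D.H.mul_mem (D.H.inv_mem hk) hh) hk
  have hcc := (D.mem_H.1 hc').2
  rw [← hr] at hcc
  have h'' : X.tr r = X.tr (-r) := by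
    rw [← X.inv_tr, ← hcc, mul_assoc, X.inv_inv_eq, mul_one]
  have h0 := X.smul_tr r 1 0 0
  rw [h'', X.smul_tr] at h0
  simp at h0
  have h2r : 2 * r = 0 := by linear_combination -h0
  refine hh1 ?_
  rw [(mul_eq_zero.1 h2r).resolve_left D.two_ne, X.tr_zero, hh'] at hr
  calc h = k * (k⁻¹ * h * k) * k⁻¹ := by group
    _ = 1 := by rw [← hr, mul_one, mul_inv_cancel]

end MaxPair

end RootSetting

end Cfsg.Agent.Lib.SpFourExotic.Odd
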