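import Cfsg.Agent.Lib.SpFourExotic.Odd.MaxPair
import Mathlib.FieldTheory.Finite.Basic

/-!
The number of members fixed by the involution divides the number of units.
-/

set_option autoImplicit false

namespace Cfsg.Agent.Lib.SpFourExotic.Odd

open scoped Pointwise

variable {K : Type*} [Field K] {p : ℕ} {G : Type*} [Group G] [DistribMulAction G (K × K × K)]
  [Finite G] [Finite K] [hp : Fact p.Prime]

namespace RootSetting.MaxPair

variable {X : RootSetting (K := K) p G} (D : MaxPair X)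

/-- The members different from the axis. -/
def others : Set (Set (K × K × K)) := {Z | D.Mem Z ∧ Z ≠ axisSet K}

/-- All fixed spaces through the intersection, other than the axis. -/
def through : Set (Set (K × K × K)) :=
  {Z | (∃ g : G, g • axisSet K = Z) ∧ D.W ⊆ Z ∧ Z ≠ axisSet K}

theorem ncard_through : D.through.ncard = Nat.card K * D.others.ncard := by
  let f : K × D.others → D.through := fun a => ⟨X.tr a.1 • (a.2 : Set (K × K × K)), by
    obtain ⟨⟨⟨g, hg⟩, hW, -⟩, hne⟩ := a.2.2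
    exact ⟨⟨X.tr a.1 * g, by rw [mul_smul, hg]⟩, D.tr_subset _ hW, fun h => hne (by
      rw [← inv_smul_smul (X.tr a.1) (a.2 : Set (K × K × K)), h, X.tr_inv]
      exact smul_eq_of_forall fun v hv => by rwa [X.tr_fix_axis _ hv])⟩⟩
  have hf : Function.Bijective f := by
    refine ⟨?_, ?_⟩
    · rintro ⟨s, Z⟩ ⟨s', Z'⟩ h
      have h' : X.tr s • (Z : Set (K × K × K)) = X.tr s' • (Z' : Set (K × K × K)) :=
        congrArg Subtype.val h
      have e : X.tr (-s' + s) • (Z : Set (K × K × K)) = Z' := by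
        rw [X.tr_add, mul_smul, h', ← X.tr_inv, inv_smul_smul]
      have hs := D.tr_unique Z.2.1 Z.2.2 (by rw [e]; exact Z'.2.1)
      obtain rfl : s = s' := by linear_combination hs
      rw [hs, X.tr_zero, one_smul] at e
      exact Prod.ext rfl (Subtype.ext e)
    · rintro ⟨_, ⟨g, rfl⟩, hW, hne⟩
      obtain ⟨s, hs⟩ := D.exists_translate hne hW
      refine ⟨(-s, ⟨_, hs, fun h => hne ?_⟩), Subtype.ext ?_⟩
      · rw [smul_eq_iff_eq_inv_smul, X.tr_inv] at h
        rw [h]
        exact smul_eq_of_forall fun v hv => by rwa [X.tr_fix_axis _ hv]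
      · show X.tr (-s) • X.tr s • g • axisSet K = g • axisSet K
        rw [← X.tr_inv, inv_smul_smul]
  rw [← Nat.card_coe_set_eq, ← Nat.card_coe_set_eq, ← Nat.card_prod, Nat.card_eq_of_bijective f hf]

theorem orbit_L : (MulAction.orbit D.L (axisSet K) : Set (Set (K × K × K))) =
    insert (axisSet K) D.through := by
  ext Z
  constructor
  · rintro ⟨⟨l, hl⟩, rfl⟩
    change l • axisSet K ∈ insert (axisSet K) D.through
    by_cases h : l • axisSet K = axisSet K
    · exact Or.inl h
    · exact Or.inr ⟨⟨l, rfl⟩, fun v hv => D.mem_L.1 hl v hv ▸ Set.smul_mem_smul_set hv.1, h⟩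
  · rintro (rfl | ⟨⟨g, rfl⟩, hW, -⟩)
    · exact MulAction.mem_orbit_self _
    · obtain ⟨l, hl, hlg⟩ := D.exists_L hW
      exact ⟨⟨l, hl⟩, hlg⟩

theorem orbit_H : (MulAction.orbit D.H (axisSet K) : Set (Set (K × K × K))) =
    insert (axisSet K) D.others := by
  ext Z
  constructor
  · rintro ⟨⟨k, hk⟩, rfl⟩
    change k • axisSet K ∈ insert (axisSet K) D.others
    by_cases h : k • axisSet K = axisSet K
    · exact Or.inl h
    · exact Or.inr ⟨D.smul_mem hk D.mem_axisSet, h⟩
  · rintro (rfl | ⟨hZ, -⟩)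
    · exact MulAction.mem_orbit_self _
    · obtain ⟨k, hk, hkZ⟩ := D.exists_H hZ
      exact ⟨⟨k, hk⟩, hkZ⟩

theorem card_stab : Nat.card (MulAction.stabilizer D.L (axisSet K)) =
    Nat.card K * Nat.card (MulAction.stabilizer D.H (axisSet K)) := by
  have hA : ∀ s, X.tr s • axisSet K = axisSet K := fun s =>
    smul_eq_of_forall fun v hv => by rwa [X.tr_fix_axis s hv]
  let f : K × MulAction.stabilizer D.H (axisSet K) → MulAction.stabilizer D.L (axisSet K) := fun a =>
    ⟨⟨X.tr a.1 * ((a.2 : D.H) : G), D.L.mul_mem (D.tr_mem_L _) (a.2 : D.H).2.1⟩, by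
      show (X.tr a.1 * ((a.2 : D.H) : G)) • axisSet K = axisSet K
      rw [mul_smul, show ((a.2 : D.H) : G) • axisSet K = axisSet K from a.2.2, hA]⟩
  have hf : Function.Bijective f := by
    refine ⟨?_, ?_⟩
    · rintro ⟨s, h⟩ ⟨s', h'⟩ he
      have e : X.tr s * ((h : D.H) : G) = X.tr s' * ((h' : D.H) : G) :=
        congrArg (fun a : MulAction.stabilizer D.L (axisSet K) => ((a : D.L) : G)) he
      have e2 : X.tr (-s' + s) = ((h' : D.H) : G) * ((h : D.H) : G)⁻¹ := by
        rw [X.tr_add, ← X.tr_inv, eq_mul_inv_iff_mul_eq, mul_assoc, e, inv_mul_cancel_left]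
      have hc := (D.mem_H.1 (D.H.mul_mem (h' : D.H).2 (D.H.inv_mem (h : D.H).2))).2
      rw [← e2] at hc
      have h2 : X.tr (-s' + s) = X.tr (-(-s' + s)) := by
        rw [← X.inv_tr, ← hc, mul_assoc, X.inv_inv_eq, mul_one]
      have h0 := X.smul_tr (-s' + s) 1 0 0
      rw [h2, X.smul_tr] at h0
      simp at h0
      have h3 : 2 * (s - s') = 0 := by first | linear_combination h0 | linear_combination -h0 | grind
      obtain rfl : s = s' := sub_eq_zero.1 ((mul_eq_zero.1 h3).resolve_left D.two_ne)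
      exact Prod.ext rfl (Subtype.ext (Subtype.ext (mul_left_cancel e)))
    · rintro ⟨⟨n, hn⟩, hnA⟩
      change n • axisSet K = axisSet K at hnA
      obtain ⟨s, hs⟩ := D.inv_eq (g := n * X.inv * n⁻¹) (fun h => D.inv_ne_one (by
          calc X.inv = n⁻¹ * (n * X.inv * n⁻¹) * n := by group
            _ = 1 := by rw [h, mul_one, inv_mul_cancel]))
        (by rw [show n * X.inv * n⁻¹ * (n * X.inv * n⁻¹) = n * (X.inv * X.inv) * n⁻¹ by group,
          X.inv_inv_eq, mul_one, mul_inv_cancel])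
        (fun v hv => by
          rw [mul_smul, mul_smul,
            X.inv_fix_axis (Set.mem_smul_set_iff_inv_smul_mem.1 (hnA.symm ▸ hv)), smul_inv_smul])
      have hc : (X.tr s)⁻¹ * n * X.inv = X.inv * ((X.tr s)⁻¹ * n) := by
        calc (X.tr s)⁻¹ * n * X.inv = (X.tr s)⁻¹ * (n * X.inv * n⁻¹) * n := by group
          _ = X.inv * ((X.tr s)⁻¹ * n) := by rw [hs]; group
      refine ⟨(s, ⟨⟨(X.tr s)⁻¹ * n, D.L.mul_mem (D.L.inv_mem (D.tr_mem_L s)) hn,
        Subgroup.mem_centralizer_singleton_iff.2 hc⟩, ?_⟩), Subtype.ext (Subtype.ext ?_)⟩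
      · show ((X.tr s)⁻¹ * n) • axisSet K = axisSet K
        rw [mul_smul, hnA, inv_smul_eq_iff, hA]
      · show X.tr s * ((X.tr s)⁻¹ * n) = n
        exact mul_inv_cancel_left _ _
  rw [← Nat.card_prod, Nat.card_eq_of_bijective f hf]

include hp in
/-- The number of members divides the number of units. -/
theorem succ_dvd (hq : ∃ n, Nat.card K = p ^ n) :
    D.others.ncard + 1 ∣ Nat.card K - 1 ∧ ¬ p ∣ D.others.ncard + 1 := by
  set m := D.others.ncard
  have hH : Nat.card D.H = (m + 1) * Nat.card (MulAction.stabilizer D.H (axisSet K)) := by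
    rw [← (MulAction.stabilizer D.H (axisSet K)).index_mul_card, MulAction.index_stabilizer, orbit_H,
      Set.ncard_insert_of_notMem (fun h => h.2 rfl) (Set.toFinite _)]
  have hL : Nat.card D.L =
      (Nat.card K * m + 1) * Nat.card (MulAction.stabilizer D.L (axisSet K)) := by
    rw [← (MulAction.stabilizer D.L (axisSet K)).index_mul_card, MulAction.index_stabilizer, orbit_L,
      Set.ncard_insert_of_notMem (fun h => h.2.2 rfl) (Set.toFinite _), ncard_through]
  have hdvd : Nat.card D.H ∣ Nat.card D.L := Subgroup.card_dvd_of_le (inf_le_left : D.H ≤ D.L)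
  have hpm : ¬ p ∣ m + 1 := fun h => D.not_dvd_card_H (h.trans (hH ▸ dvd_mul_right _ _))
  refine ⟨?_, hpm⟩
  rw [hH, hL, card_stab, ← mul_assoc] at hdvd
  have h1 : m + 1 ∣ (Nat.card K * m + 1) * Nat.card K :=
    (Nat.mul_dvd_mul_iff_right Nat.card_pos).1 hdvd
  obtain ⟨n, hn⟩ := hq
  have hco : Nat.Coprime (m + 1) (Nat.card K) := by
    rw [hn]
    exact Nat.Coprime.pow_right _ ((hp.out.coprime_iff_not_dvd.2 hpm).symm)
  have h2 : m + 1 ∣ Nat.card K * m + 1 := hco.dvd_of_dvd_mul_right h1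
  have e : Nat.card K * m + 1 = (Nat.card K - 1) * m + (m + 1) := by
    rw [← add_assoc, ← Nat.succ_mul, Nat.succ_eq_add_one, Nat.sub_add_cancel Nat.card_pos]
  rw [e, Nat.dvd_add_left dvd_rfl] at h2
  exact (Nat.coprime_self_add_left.2 (Nat.coprime_one_left _)).dvd_of_dvd_mul_right h2

theorem others_nonempty : D.others.Nonempty := by
  obtain ⟨s, hs⟩ := D.exists_translate D.ne fun _ h => h.2
  refine ⟨_, hs, fun h => D.ne ?_⟩
  rw [smul_eq_iff_eq_inv_smul, X.tr_inv] at h
  rw [h]
  exact smul_eq_of_forall fun v hv => by rwa [X.tr_fix_axis _ hv]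

end RootSetting.MaxPair

end Cfsg.Agent.Lib.SpFourExotic.Odd
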