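import Cfsg.Agent.Lib.SpFourExotic.Odd.Core
import Cfsg.Agent.Lib.SpFourExotic.Odd.Flip
import Cfsg.Agent.Lib.SpFourExotic.Odd.Counting

/-!
The abelian radical and a line are not both essential when the core is central and nontrivial.
-/

set_option autoImplicit false

namespace Cfsg.Agent.Lib.SpFourExotic.Odd

open Cfsg Cfsg.FusionSystem Cfsg.Agent.Lib.Fusion

variable {Ω : Type*} [Group Ω] {S : Subgroup Ω} {K : Type*} [Field K] {F : FusionSystem S}
  {p : ℕ} {e : U4 K ≃* ↥S}

/-- The coordinates of the abelian radical. -/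
def radEquiv (K : Type*) [Field K] : K × K × K ≃ ↥(rad1 K) where
  toFun v := ⟨⟨0, v.1, v.2.1, v.2.2⟩, rfl⟩
  invFun a := ((a : U4 K).u, (a : U4 K).x, (a : U4 K).y)
  left_inv _ := rfl
  right_inv a := Subtype.ext (U4.ext a.2.symm rfl rfl rfl)

theorem radEquiv_add (v w : K × K × K) :
    radEquiv K (v + w) = radEquiv K v * radEquiv K w :=
  Subtype.ext (U4.ext (by simp [radEquiv]) (by simp [radEquiv]) (by simp [radEquiv])
    (by simp [radEquiv]))

theorem radEquiv_symm_mul (a b : rad1 K) :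
    (radEquiv K).symm (a * b) = (radEquiv K).symm a + (radEquiv K).symm b := by
  apply (radEquiv K).injective
  rw [radEquiv_add, Equiv.apply_symm_apply, Equiv.apply_symm_apply, Equiv.apply_symm_apply]

noncomputable instance : DistribMulAction ↥(autC F e (rad1 K)) (K × K × K) where
  smul g v := (radEquiv K).symm ((g : MulAut (rad1 K)) (radEquiv K v))
  one_smul v := (radEquiv K).symm_apply_apply v
  mul_smul g h v := by
    show (radEquiv K).symm _ = (radEquiv K).symm ((g : MulAut (rad1 K)) (radEquiv K ((radEquiv K).symm _)))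
    rw [Equiv.apply_symm_apply]
    rfl
  smul_zero g := by
    show (radEquiv K).symm ((g : MulAut (rad1 K)) (radEquiv K 0)) = 0
    rw [show radEquiv K (0 : K × K × K) = 1 from Subtype.ext rfl, map_one]
    rfl
  smul_add g v w := by
    show (radEquiv K).symm _ = (radEquiv K).symm _ + (radEquiv K).symm _
    rw [radEquiv_add, map_mul, radEquiv_symm_mul]

theorem coe_smul (g : autC F e (rad1 K)) (v : K × K × K) :
    (radEquiv K (g • v) : U4 K) = (((g : MulAut (rad1 K)) (radEquiv K v) : rad1 K) : U4 K) :=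
  congrArg Subtype.val ((radEquiv K).apply_symm_apply _)

/-- The root elements. -/
noncomputable def radTr (F : FusionSystem S) (e : U4 K ≃* ↥S) (h2 : (2 : K) ≠ 0) (s : K) :
    autC F e (rad1 K) :=
  cjC e F ⟨s, 0, 0, 0⟩ (normalizes_of_mid_le h2 mid_le_rad1 _)

theorem radTr_smul (h2 : (2 : K) ≠ 0) (s u x y : K) :
    radTr F e h2 s • ((u, x, y) : K × K × K) = (u, x + s * u, y + 2 * s * x + s * s * u) := by
  refine (radEquiv K).injective (Subtype.ext ?_)
  rw [coe_smul]
  show (⟨s, 0, 0, 0⟩ : U4 K) * ⟨0, u, x, y⟩ * (⟨s, 0, 0, 0⟩ : U4 K)⁻¹ =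
    ⟨0, u, x + s * u, y + 2 * s * x + s * s * u⟩
  ext <;> simp

/-- A conjugation on the radical is a root element. -/
theorem conj_rad (g : U4 K) {a : U4 K} (ha : a ∈ rad1 K) :
    g * a * g⁻¹ = (⟨g.t, 0, 0, 0⟩ : U4 K) * a * (⟨g.t, 0, 0, 0⟩ : U4 K)⁻¹ := by
  rw [mem_rad1] at ha
  ext <;> simp [ha] <;> ring

variable [Finite K] [Finite S] [hp : Fact p.Prime] [CharP K p]

theorem smul_eq_of (g : autC F e (rad1 K)) {β : MulAut (U4 K)}
    (h : ∀ a : rad1 K, ((g : MulAut (rad1 K)) a : U4 K) = β a) (u x y : K) :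
    g • ((u, x, y) : K × K × K) =
      ((β ⟨0, u, x, y⟩).u, (β ⟨0, u, x, y⟩).x, (β ⟨0, u, x, y⟩).y) := by
  show (radEquiv K).symm _ = _
  rw [show (⟨0, u, x, y⟩ : U4 K) = (radEquiv K (u, x, y) : U4 K) from rfl, ← h]
  rfl

/-- Not both the abelian radical and a line are essential. -/
theorem false_of_rad1_line (h2 : (2 : K) ≠ 0) (hp2 : p ≠ 2) (hS : IsPGroup p S)
    (hF : F.IsSaturated p) (hcore : F.core ≠ ⊥) {l : K} (h1 : F.IsEssential p (sub e (rad1 K)))
    (hl : F.IsEssential p (sub e (line l))) : False := by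
  have hzed := line_core h2 e hS hF hl (core_le_mid_of_rad1 h2 e hS hF h1 hl)
  obtain ⟨w, hw, hwc⟩ := coreC_axis h2 e hS hF hcore
  obtain ⟨-, hinv⟩ := coreC_invariant e hS hF h1
  obtain ⟨P, hP⟩ := exists_sylow_induced e hS hF h1.2.1
  let G := ↥(autC F e (rad1 K))
  let M : Subgroup (rad1 K) := (mid K).subgroupOf (rad1 K)
  let Z : Subgroup (rad1 K) := (zed K).subgroupOf (rad1 K)
  have hZM : Z ≤ M := fun x hx => zed_le_mid hx
  have hrange : ((P : Subgroup (autC F e (rad1 K))) : Set (autC F e (rad1 K))) =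
      Set.range (radTr F e h2) := by
    ext g
    rw [hP]
    constructor
    · intro hg
      obtain ⟨x, -, hx⟩ := mem_autInducedBy.1 (Subgroup.mem_subgroupOf.1 hg)
      refine ⟨x.t, Subtype.ext (MulEquiv.ext fun a => Subtype.ext ?_)⟩
      rw [hx a, conj_rad x a.2]
      rfl
    · rintro ⟨s, rfl⟩
      exact mem_autInducedBy.2 ⟨_, trivial, fun _ => rfl⟩
  have heq := sylow_eq_stab3 e hS (hZM := hZM) P fun α hα => by
    rw [hP, Subgroup.mem_subgroupOf, mem_autInducedBy] at hα
    obtain ⟨g, -, hg⟩ := hα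
    refine ⟨fun x => ?_, fun x hx => ?_, fun x hx => Subtype.ext ?_⟩
    · rw [Subgroup.mem_subgroupOf, Subgroup.coe_mul, Subgroup.coe_inv, hg]
      exact conj_mem_mid g _
    · rw [Subgroup.mem_subgroupOf, Subgroup.coe_mul, Subgroup.coe_inv, hg]
      exact conj_mid_zed h2 g (Subgroup.mem_subgroupOf.1 hx)
    · rw [hg]; exact conj_zed h2 g (Subgroup.mem_subgroupOf.1 hx)
  have hchain : ∀ g : autC F e (rad1 K), (∀ v : K × K × K, g • v - v ∈ planeSet K) →
      (∀ v ∈ planeSet K, g • v - v ∈ axisSet K) → (∀ v ∈ axisSet K, g • v = v) →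
      g ∈ Set.range (radTr F e h2) := by
    intro g c1 c2 c3
    rw [← hrange, heq]
    refine ⟨fun a => ?_, fun a ha => ?_, fun a ha => ?_⟩
    · obtain ⟨v, rfl⟩ := (radEquiv K).surjective a
      have h := c1 v
      rw [Subgroup.mem_subgroupOf, Subgroup.coe_mul, Subgroup.coe_inv]
      have e1 := coe_smul g v
      rw [show ((autC F e (rad1 K)).subtype g) = (g : MulAut (rad1 K)) from rfl, ← e1]
      rw [mem_mid]
      simp only [planeSet, Set.mem_ofPred_eq, Prod.fst_sub] at h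
      exact ⟨by simp [radEquiv], by simp [radEquiv]; linear_combination h⟩
    · obtain ⟨v, rfl⟩ := (radEquiv K).surjective a
      obtain ⟨u, x, y⟩ := v
      obtain rfl : u = 0 := (mem_mid.1 ha).2
      have h := c2 (0, x, y) rfl
      rw [Subgroup.mem_subgroupOf, Subgroup.coe_mul, Subgroup.coe_inv]
      have e1 := coe_smul g (0, x, y)
      rw [show ((autC F e (rad1 K)).subtype g) = (g : MulAut (rad1 K)) from rfl, ← e1]
      obtain ⟨a1, a2⟩ := h
      simp only [Prod.fst_sub, sub_zero] at a1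
      simp only [Prod.snd_sub, Prod.fst_sub] at a2
      refine ⟨by simp [radEquiv], by simp [radEquiv, a1], ?_⟩
      simp [radEquiv]
      linear_combination a2
    · obtain ⟨v, rfl⟩ := (radEquiv K).surjective a
      obtain ⟨-, hu, hx⟩ := ha
      refine Subtype.ext ?_
      rw [show ((autC F e (rad1 K)).subtype g) = (g : MulAut (rad1 K)) from rfl, ← coe_smul,
        c3 v ⟨hu, hx⟩]
  have hw0 : ∀ g : autC F e (rad1 K), g • ((0, 0, w) : K × K × K) ∈ axisSet K := fun g => by
    have h := hzed (hinv g (radEquiv K (0, 0, w)) hwc)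
    rw [← coe_smul] at h
    exact ⟨h.2.1, h.2.2⟩
  -- the involution
  obtain ⟨f, hf, hfz, hfl, hfm⟩ :=
    exists_torus h2 e hS hF hl (r := (-1 : K)) (neg_ne_zero.2 one_ne_zero)
  have hfm' : ∀ m ∈ mid K, f m ∈ mid K ∧ (f m).x = -1 * m.x := fun m hm => by
    obtain ⟨a, b⟩ := hfm m hm
    exact ⟨a, by rw [b]; norm_num⟩
  have hff := fun a => torus_formula h2 (L := (-1 : K)) (by norm_num) hfz hfm' a
  obtain ⟨γ, hγ⟩ := exists_restrict e hf fun a ha => rad1_map h2 f ha
  have hγsmul := smul_eq_of γ hγ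
  have hγaxis : ∀ y : K, γ • ((0, 0, y) : K × K × K) = (0, 0, y) := fun y => by
    rw [hγsmul, hfz ⟨0, 0, 0, y⟩ ⟨rfl, rfl, rfl⟩]
  have hγu : ∀ u x y : K, (γ • ((u, x, y) : K × K × K)).1 = u := fun u x y => by
    rw [hγsmul]
    show (f ⟨0, u, x, y⟩).u = u
    rw [(hff _).2]
    simp
  have hγx : ∀ x : K, (γ • ((0, x, 0) : K × K × K)).2.1 = -x := fun x => by
    rw [hγsmul]
    show (f ⟨0, 0, x, 0⟩).x = -x
    rw [(hfm' _ (mem_mid.2 ⟨rfl, rfl⟩)).2]; simp
  have hγtr : ∀ (s : K) (v : K × K × K),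
      γ • radTr F e h2 s • v = radTr F e h2 (-s) • γ • v := by
    intro s v
    refine (radEquiv K).injective (Subtype.ext ?_)
    rw [coe_smul, coe_smul (radTr F e h2 (-s)), hγ]
    have e1 : ((radTr F e h2 s : MulAut (rad1 K)) (radEquiv K v) : U4 K) =
        ⟨s, 0, 0, 0⟩ * (radEquiv K v : U4 K) * (⟨s, 0, 0, 0⟩ : U4 K)⁻¹ := rfl
    rw [coe_smul, e1, map_mul, map_mul, map_inv]
    show _ = (⟨-s, 0, 0, 0⟩ : U4 K) * (radEquiv K (γ • v) : U4 K) * (⟨-s, 0, 0, 0⟩ : U4 K)⁻¹
    rw [coe_smul, hγ, conj_rad (f ⟨s, 0, 0, 0⟩) (rad1_map h2 f (radEquiv K v).2), (hff _).1]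
    simp
  set f1 := (γ • ((1, 0, 0) : K × K × K)).2.1 with hf1
  have hsplit : ∀ u x y : K, γ • ((u, x, y) : K × K × K) =
      γ • ((u, 0, 0) : K × K × K) + γ • ((0, x, 0) : K × K × K) + (0, 0, y) := by
    intro u x y
    conv_rhs => rw [← hγaxis y, ← smul_add, ← smul_add]
    simp
  have key : ∀ s u : K, (γ • ((0, s * u, 0) : K × K × K)).2.2 =
      -2 * s * (γ • ((u, 0, 0) : K × K × K)).2.1 := by
    intro s u
    have h := hγtr s (u, 0, 0)
    rw [radTr_smul, hsplit] at h
    have hu := hγu u 0 0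
    generalize γ • ((u, 0, 0) : K × K × K) = A at h hu ⊢
    obtain ⟨A1, A2, A3⟩ := A
    change A1 = u at hu
    subst hu
    rw [radTr_smul] at h
    have h' := congrArg (fun v : K × K × K => v.2.2) h
    simp at h'
    linear_combination h'
  have hfu : ∀ u : K, (γ • ((u, 0, 0) : K × K × K)).2.1 = u * f1 := by
    intro u
    have a := key u 1
    have b := key 1 u
    rw [mul_one] at a
    rw [one_mul, a] at b
    refine mul_left_cancel₀ h2 ?_
    linear_combination b
  have hgx : ∀ x : K, γ • ((0, x, 0) : K × K × K) = (0, -x, -2 * x * f1) := by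
    intro x
    have a := key x 1
    rw [mul_one, ← hf1] at a
    have hb1 := hγu 0 x 0
    have hb2 := hγx x
    generalize γ • ((0, x, 0) : K × K × K) = B at a hb1 hb2 ⊢
    obtain ⟨B1, B2, B3⟩ := B
    change B1 = 0 at hb1
    change B2 = -x at hb2
    change B3 = -2 * x * f1 at a
    rw [hb1, hb2, a]
  have hu0 : ∀ u : K, γ • ((u, 0, 0) : K × K × K) = (u, u * f1, u * f1 * f1) := by
    intro u
    have hu := hγu u 0 0
    have hx := hfu u
    obtain ⟨c, hc⟩ : ∃ c, γ • ((u, 0, 0) : K × K × K) = (u, u * f1, c) :=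
      ⟨_, Prod.ext hu (Prod.ext hx rfl)⟩
    have hsq : γ * γ ∈ Set.range (radTr F e h2) := by
      refine hchain _ (fun ⟨a, b, d⟩ => ?_) (fun v hv => ?_) fun v hv => ?_
      · have h1 := hγu a b d
        rw [mul_smul]
        rcases hγv : γ • ((a, b, d) : K × K × K) with ⟨a', b', d'⟩
        rw [hγv] at h1
        have h2' := hγu a' b' d'
        obtain rfl : a' = a := h1
        simp [planeSet, h2']
      · obtain ⟨a, b, d⟩ := v
        obtain rfl : a = 0 := hv
        have h0 : γ • ((0, 0, 0) : K × K × K) = 0 := smul_zero γ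
        have hbd : ∀ b d : K, γ • ((0, b, d) : K × K × K) = (0, -b, -2 * b * f1 + d) := fun b d => by
          rw [hsplit, h0, zero_add, hgx]
          simp
        rw [mul_smul, hbd, hbd]
        simp [axisSet]
      · obtain ⟨a, b, d⟩ := v
        obtain ⟨rfl, rfl⟩ : a = 0 ∧ b = 0 := hv
        rw [mul_smul, hγaxis, hγaxis]
    obtain ⟨r, hr⟩ := hsq
    have h := congrArg (fun g : autC F e (rad1 K) => g • ((u, 0, 0) : K × K × K)) hr
    simp only [mul_smul, hc, radTr_smul] at h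
    rw [hsplit u (u * f1) c, hc, hgx] at h
    simp only [Prod.mk_add_mk, Prod.mk.injEq, add_zero, zero_add, mul_zero] at h
    obtain ⟨-, h3, h4⟩ := h
    rw [hc, Prod.mk.injEq, Prod.mk.injEq]
    refine ⟨rfl, rfl, mul_left_cancel₀ h2 ?_⟩
    have h5 : r * u = 0 := by linear_combination h3
    linear_combination -h4 + r * h5
  let i : autC F e (rad1 K) := radTr F e h2 (-f1) * γ
  have hi : ∀ u x y : K, i • ((u, x, y) : K × K × K) = (u, -x, y) := by
    intro u x y
    show (radTr F e h2 (-f1) * γ) • _ = _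
    rw [mul_smul, hsplit, hu0, hgx]
    simp only [Prod.mk_add_mk, add_zero, zero_add]
    rw [radTr_smul]
    simp only [Prod.mk.injEq, true_and]
    constructor <;> ring
  let X : RootSetting (K := K) p ↥(autC F e (rad1 K)) :=
    { tr := radTr F e h2
      P := P
      range_tr := hrange
      smul_tr := radTr_smul h2
      faith := fun g hg => Subtype.ext (MulEquiv.ext fun a => Subtype.ext (by
        obtain ⟨v, rfl⟩ := (radEquiv K).surjective a
        rw [← coe_smul, hg v]
        rfl))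
      not_normal := not_normal e h1 P
      chain := hchain
      inv := i
      smul_inv := hi
      w0 := w
      w0_ne := hw
      w0_fixed := hw0 }
  -- the torus
  obtain ⟨c, hc⟩ := IsCyclic.exists_generator (α := Kˣ)
  obtain ⟨b, hb, hbz, -, hbm⟩ := exists_torus h2 e hS hF hl (r := (c : K)) c.ne_zero
  obtain ⟨τ, hτ⟩ := exists_restrict e hb fun a ha => rad1_map h2 b ha
  have hτsmul := smul_eq_of τ hτ
  have hτaxis : ∀ v ∈ axisSet K, τ • v = v := by
    rintro ⟨a, b', d⟩ hv
    obtain ⟨rfl, rfl⟩ : a = 0 ∧ b' = 0 := hv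
    rw [hτsmul, hbz ⟨0, 0, 0, d⟩ ⟨rfl, rfl, rfl⟩]
  obtain ⟨D⟩ := X.exists_maxPair h2
  have hτA : ∀ v ∈ axisSet K, τ⁻¹ • v = v := fun v hv => inv_smul_eq_iff.2 (hτaxis v hv).symm
  obtain ⟨s, hs⟩ := D.inv_eq (g := τ * i * τ⁻¹) (fun h => D.inv_ne_one (by
      calc i = τ⁻¹ * (τ * i * τ⁻¹) * τ := by group
        _ = 1 := by rw [h, mul_one, inv_mul_cancel]))
    (by rw [show τ * i * τ⁻¹ * (τ * i * τ⁻¹) = τ * (i * i) * τ⁻¹ by group,
      show i * i = 1 from X.inv_inv_eq, mul_one, mul_inv_cancel])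
    (fun v hv => by
      rw [mul_smul, mul_smul, hτA v hv, show i • v = v from X.inv_fix_axis hv, hτaxis v hv])
  have hcomm : (X.tr s)⁻¹ * τ * i = i * ((X.tr s)⁻¹ * τ) := by
    calc (X.tr s)⁻¹ * τ * i = (X.tr s)⁻¹ * (τ * i * τ⁻¹) * τ := by group
      _ = i * ((X.tr s)⁻¹ * τ) := by rw [hs]; group; rfl
  have : Fintype K := Fintype.ofFinite K
  let T : X.Torus :=
    { tau := (X.tr s)⁻¹ * τ
      sigma := (c : K)⁻¹ * (c : K)⁻¹
      fix_axis := fun v hv => by rw [mul_smul, hτaxis v hv, inv_smul_eq_iff, X.tr_fix_axis s hv]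
      comm := hcomm
      smul_tau := fun u => by
        rw [mul_smul, X.tr_inv]
        rcases hv : τ • ((u, 0, 0) : K × K × K) with ⟨a, b', d⟩
        rw [X.smul_tr]
        show a = _
        rw [hτsmul, Prod.mk.injEq] at hv
        rw [← hv.1, (torus_formula h2 (inv_ne_zero c.ne_zero) hbz hbm _).2]
        simp
      order_sigma := by
        have hcard : orderOf (c : K)⁻¹ = Fintype.card K - 1 := by
          rw [← Units.val_inv_eq_inv_val, orderOf_units, orderOf_inv,
            orderOf_eq_card_of_forall_mem_zpowers hc, Nat.card_units, Nat.card_eq_fintype_card]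
        obtain ⟨n, -, hn⟩ := FiniteField.card K p
        have hodd : Odd (Fintype.card K) := hn ▸ (hp.out.odd_of_ne_two hp2).pow
        obtain ⟨k, hk⟩ := hodd
        have h1 : 1 < Fintype.card K := Fintype.one_lt_card
        rw [← sq, orderOf_pow' _ two_ne_zero, hcard, Nat.card_eq_fintype_card, hk,
          Nat.add_sub_cancel, Nat.gcd_mul_right_left, Nat.mul_div_cancel_left _ two_pos] }
  exact X.false_of_torus hp2 T

end Cfsg.Agent.Lib.SpFourExotic.Odd
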