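import Cfsg.Agent.Lib.SpFourExotic.Odd.Orders
import Mathlib.Algebra.Order.BigOperators.Group.Finset

/-!
The torus acting on the members and the final count: no such linear group exists.
-/

set_option autoImplicit false

namespace Cfsg.Agent.Lib.SpFourExotic.Odd

open scoped Pointwise

variable {K : Type*} [Field K] {p : ℕ} {G : Type*} [Group G] [DistribMulAction G (K × K × K)]

namespace RootSetting

/-- A torus element centralising the axis and commuting with the involution. -/
structure Torus (X : RootSetting (K := K) p G) where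
  tau : G
  sigma : K
  fix_axis : ∀ v ∈ axisSet K, tau • v = v
  comm : tau * X.inv = X.inv * tau
  smul_tau : ∀ u : K, (tau • ((u, 0, 0) : K × K × K)).1 = sigma * u
  order_sigma : 2 * orderOf sigma = Nat.card K - 1

namespace MaxPair

variable [Finite G] [Finite K] [hp : Fact p.Prime] {X : RootSetting (K := K) p G} (D : MaxPair X)
  (T : Torus X)

/-- The additive projection to the first coordinate. -/
def fstSet (Z : Set (K × K × K)) : Set K := Prod.fst '' Z

omit [Finite G] [Finite K] hp in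
theorem ncard_axis : (axisSet K).ncard = Nat.card K := by
  rw [← Nat.card_coe_set_eq]
  exact Nat.card_congr
    ⟨fun v => v.1.2.2, fun y => ⟨(0, 0, y), rfl, rfl⟩,
      fun ⟨⟨u, x, y⟩, hu, hx⟩ => by obtain rfl : u = 0 := hu; obtain rfl : x = 0 := hx; rfl,
      fun _ => rfl⟩

theorem ncard_fstSet {Z : Set (K × K × K)} (hZ : Z ∈ D.others) :
    (fstSet Z).ncard * D.W.ncard = Nat.card K := by
  obtain ⟨⟨⟨g, rfl⟩, hW, -⟩, hne⟩ := hZ
  let f : K →+ K :=
    { toFun := fun y => (g • ((0, 0, y) : K × K × K)).1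
      map_zero' := by simp [show ((0, 0, 0) : K × K × K) = 0 from rfl]
      map_add' := fun a b => by
        rw [show ((0, 0, a + b) : K × K × K) = (0, 0, a) + (0, 0, b) by simp, smul_add]; rfl }
  have hr : (f.range : Set K) = fstSet (g • axisSet K) := by
    ext u
    constructor
    · rintro ⟨y, rfl⟩
      exact ⟨_, Set.smul_mem_smul_set ⟨rfl, rfl⟩, rfl⟩
    · rintro ⟨_, ⟨⟨a, b, y⟩, ⟨ha, hb⟩, rfl⟩, rfl⟩
      change a = 0 at ha
      change b = 0 at hb
      subst ha hb
      exact ⟨y, rfl⟩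
  have hk : Nat.card f.ker = D.W.ncard := by
    rw [← Nat.card_coe_set_eq]
    refine Nat.card_eq_of_bijective (fun y => ⟨g • ((0, 0, (y : K)) : K × K × K),
      D.axis_of_plane hne hW (Set.smul_mem_smul_set ⟨rfl, rfl⟩) y.2⟩) ⟨fun a b h => ?_, fun v => ?_⟩
    · have := smul_left_cancel g (congrArg Subtype.val h)
      exact Subtype.ext (congrArg (fun v : K × K × K => v.2.2) this)
    · obtain ⟨v, hv⟩ := v
      obtain ⟨⟨a, b, y⟩, ⟨ha, hb⟩, hy⟩ := hW hv
      change a = 0 at ha
      change b = 0 at hb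
      subst ha hb
      change g • ((0, 0, y) : K × K × K) = v at hy
      refine ⟨⟨y, ?_⟩, Subtype.ext hy⟩
      show (g • ((0, 0, y) : K × K × K)).1 = 0
      rw [hy]
      exact (D.W_axis hv).1
  rw [← hr, ← Nat.card_coe_set_eq, ← hk]
  show Nat.card f.range * _ = _
  rw [← f.ker.index_mul_card, AddSubgroup.index_ker]

include T in
omit [Finite G] hp in
theorem sigma_ne_one (hq : 3 < Nat.card K) : T.sigma ≠ 1 := fun h => by
  have := T.order_sigma
  rw [h, orderOf_one] at this
  omega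

/-- The correction making the torus diagonal on the vectors fixed by the involution. -/
noncomputable def eta (u : K) : K := (T.tau • ((u / (T.sigma - 1), 0, 0) : K × K × K)).2.2

omit [Finite G] [Finite K] hp in
theorem eta_add (u v : K) : eta T (u + v) = eta T u + eta T v := by
  simp only [eta]
  rw [show (((u + v) / (T.sigma - 1), 0, 0) : K × K × K) =
    (u / (T.sigma - 1), 0, 0) + (v / (T.sigma - 1), 0, 0) by simp [add_div], smul_add]
  rfl

omit [Finite G] [Finite K] hp in
theorem eta_zero : eta T 0 = 0 := by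
  have := eta_add T (0 : K) 0
  simpa using this

omit [Finite G] [Finite K] hp in
/-- The invariant of the torus. -/
noncomputable def zeta (v : K × K × K) : K := v.2.2 - eta T v.1

omit [Finite G] [Finite K] hp in
theorem zeta_add (v w : K × K × K) : zeta T (v + w) = zeta T v + zeta T w := by
  simp [zeta, eta_add]; ring

include D in
omit [Finite G] [Finite K] hp in
theorem tau_mem_H : T.tau ∈ D.H :=
  D.mem_H.2 ⟨fun v hv => T.fix_axis v (D.W_axis hv), T.comm⟩

include D in
omit [Finite G] hp in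
theorem smul_tau_fixed (hq : 3 < Nat.card K) {v : K × K × K} (hv : v.2.1 = 0) :
    (T.tau • v).2.1 = 0 ∧ (T.tau • v).1 = T.sigma * v.1 ∧ zeta T (T.tau • v) = zeta T v := by
  obtain ⟨u, x, y⟩ := v
  obtain rfl : x = 0 := hv
  have h1 : (T.tau • ((u, 0, 0) : K × K × K)).2.1 = 0 := by
    refine (X.inv_fix_iff D.two_ne).1 ?_
    rw [← mul_smul, ← T.comm, mul_smul, (X.inv_fix_iff D.two_ne).2 rfl]
  have e : T.tau • ((u, 0, y) : K × K × K) = T.tau • ((u, 0, 0) : K × K × K) + (0, 0, y) := by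
    rw [show ((u, 0, y) : K × K × K) = (u, 0, 0) + (0, 0, y) by simp, smul_add,
      T.fix_axis (0, 0, y) ⟨rfl, rfl⟩]
  have e1 := T.smul_tau u
  refine ⟨by rw [e]; simp [h1], by rw [e]; simp [e1], ?_⟩
  have hs : T.sigma - 1 ≠ 0 := sub_ne_zero.2 (sigma_ne_one T hq)
  rw [e, zeta_add]
  simp only [zeta, e1, eta_zero, sub_zero]
  have h3 : eta T (T.sigma * u) = eta T ((T.sigma - 1) * u) + eta T u := by
    rw [← eta_add]; ring_nf
  have h4 : eta T ((T.sigma - 1) * u) = (T.tau • ((u, 0, 0) : K × K × K)).2.2 := by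
    simp only [eta, mul_div_cancel_left₀ u hs]
  rw [h3, h4]
  ring

include D in
omit [Finite G] hp in
theorem smul_pow_fixed (hq : 3 < Nat.card K) (k : ℕ) {v : K × K × K} (hv : v.2.1 = 0) :
    (T.tau ^ k • v).2.1 = 0 ∧ (T.tau ^ k • v).1 = T.sigma ^ k * v.1 ∧
      zeta T (T.tau ^ k • v) = zeta T v := by
  induction k with
  | zero => simp [hv]
  | succ k ih =>
    obtain ⟨a, b, c⟩ := ih
    obtain ⟨a', b', c'⟩ := smul_tau_fixed D T hq a
    rw [pow_succ', mul_smul]
    exact ⟨a', by rw [b', b, pow_succ']; ring, c'.trans c⟩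

include T in
theorem pow_mem_others {Z : Set (K × K × K)} (hZ : Z ∈ D.others) (k : ℕ) :
    T.tau ^ k • Z ∈ D.others := by
  refine ⟨D.smul_mem (D.H.pow_mem (tau_mem_H D T) k) hZ.1, fun h => hZ.2 ?_⟩
  rw [smul_eq_iff_eq_inv_smul] at h
  rw [h]
  refine smul_eq_of_forall fun v hv => ?_
  rw [show (T.tau ^ k)⁻¹ • v = v from inv_smul_eq_iff.2 ?_]
  · exact hv
  · clear h
    induction k with
    | zero => simp
    | succ k ih => rw [pow_succ', mul_smul, ← ih, T.fix_axis v hv]

include T in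
theorem pow_period (hq : 3 < Nat.card K) {Z : Set (K × K × K)} (hZ : Z ∈ D.others) (j k : ℕ) :
    T.tau ^ (orderOf T.sigma * j + k) • Z = T.tau ^ k • Z := by
  rw [pow_add, mul_smul]
  refine smul_eq_of_forall fun v hv => ?_
  suffices h : T.tau ^ (orderOf T.sigma * j) • v = v by rwa [h]
  have hx := (pow_mem_others D T hZ k).1.2.2 v hv
  obtain ⟨a, b, c⟩ := smul_pow_fixed D T hq (orderOf T.sigma * j) hx
  rw [pow_mul T.sigma, pow_orderOf_eq_one, one_pow, one_mul] at b
  generalize T.tau ^ (orderOf T.sigma * j) • v = w at a b c ⊢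
  obtain ⟨w1, w2, w3⟩ := w
  obtain ⟨v1, v2, v3⟩ := v
  simp [zeta] at a b c hx
  subst b a hx
  simp at c
  rw [c]

/-- The members inside the complement. -/
def InR (Z : Set (K × K × K)) : Prop := ∀ v ∈ Z, ((0, 0, zeta T v) : K × K × K) ∈ D.W

omit [Finite G] [Finite K] hp in
theorem W_sub {v w : K × K × K} (hv : v ∈ D.W) (hw : w ∈ D.W) : v - w ∈ D.W :=
  ⟨axis_sub hv.1 hw.1, img_sub (fun _ h _ h' => axis_sub h h') hv.2 hw.2⟩

omit [Finite G] [Finite K] hp in
theorem W_add {v w : K × K × K} (hv : v ∈ D.W) (hw : w ∈ D.W) : v + w ∈ D.W :=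
  ⟨axis_add hv.1 hw.1, img_add (fun _ h _ h' => axis_add h h') hv.2 hw.2⟩

theorem inR_of_stab (hq : 3 < Nat.card K) {Z : Set (K × K × K)} (hZ : Z ∈ D.others) {k : ℕ}
    (hk : T.tau ^ k • Z = Z) (hs : T.sigma ^ k ≠ 1) : InR D T Z := by
  intro v hv
  obtain ⟨⟨⟨g, rfl⟩, hW, hx⟩, hne⟩ := hZ
  set U := fstSet (g • axisSet K)
  set d := fun w : K × K × K => T.tau ^ k • w - w
  have hd : ∀ w ∈ g • axisSet K, d w ∈ g • axisSet K ∧ zeta T (d w) = 0 ∧
      (d w).1 = (T.sigma ^ k - 1) * w.1 := by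
    intro w hw
    obtain ⟨a, b, c⟩ := smul_pow_fixed D T hq k (hx w hw)
    refine ⟨img_sub (fun _ h _ h' => axis_sub h h') (hk ▸ Set.smul_mem_smul_set hw) hw, ?_, ?_⟩
    · have := zeta_add T (d w) w
      rw [sub_add_cancel, c] at this
      linear_combination -this
    · simp [d, b]; ring
  have himg : (fun u => (T.sigma ^ k - 1) * u) '' U = U := by
    refine Set.eq_of_subset_of_ncard_le ?_ ?_ (Set.toFinite _)
    · rintro _ ⟨_, ⟨w, hw, rfl⟩, rfl⟩
      exact ⟨d w, (hd w hw).1, (hd w hw).2.2⟩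
    · rw [Set.ncard_image_of_injective _ (mul_right_injective₀ (sub_ne_zero.2 hs))]
  obtain ⟨_, ⟨w, hw, rfl⟩, hwv⟩ := himg.ge ⟨v, hv, rfl⟩
  obtain ⟨h1, h2, h3⟩ := hd w hw
  have hvd : v - d w ∈ D.W := D.axis_of_plane hne hW
    (img_sub (fun _ h _ h' => axis_sub h h') hv h1) (by
      simp only at hwv
      simp [h3, hwv])
  have e : ((0, 0, zeta T v) : K × K × K) = v - d w := by
    have h4 := zeta_add T (v - d w) (d w)
    rw [sub_add_cancel, h2, add_zero] at h4
    obtain ⟨a, b⟩ := D.W_axis hvd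
    rw [h4]
    generalize v - d w = z at a b ⊢
    obtain ⟨z1, z2, z3⟩ := z
    simp at a b
    subst a b
    simp [zeta, eta_zero]
  rwa [e]

theorem inR_pow (hq : 3 < Nat.card K) {Z : Set (K × K × K)} (hZ : Z ∈ D.others) (hR : InR D T Z)
    (k : ℕ) : InR D T (T.tau ^ k • Z) := by
  rintro _ ⟨v, hv, rfl⟩
  show ((0, 0, zeta T (T.tau ^ k • v)) : K × K × K) ∈ D.W
  rw [(smul_pow_fixed D T hq k (hZ.1.2.2 v hv)).2.2]
  exact hR v hv

/-- The orbit of a member. -/
noncomputable def orb (Z : Set (K × K × K)) : Finset (Set (K × K × K)) := by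
  classical
  exact (Finset.range (orderOf T.sigma)).image fun k => T.tau ^ k • Z

theorem mem_orb {Z Z' : Set (K × K × K)} :
    Z' ∈ orb T Z ↔ ∃ k < orderOf T.sigma, T.tau ^ k • Z = Z' := by
  classical
  simp [orb]

theorem orb_of_pow (hq : 3 < Nat.card K) {Z : Set (K × K × K)} (hZ : Z ∈ D.others) (k : ℕ) :
    T.tau ^ k • Z ∈ orb T Z := by
  have hpos : 0 < orderOf T.sigma := by have := T.order_sigma; omega
  refine (mem_orb T).2 ⟨k % orderOf T.sigma, Nat.mod_lt _ hpos, ?_⟩
  rw [← pow_period D T hq hZ (k / orderOf T.sigma) (k % orderOf T.sigma), Nat.div_add_mod]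

theorem le_orb_mul (hq : 3 < Nat.card K) {Z : Set (K × K × K)} (hZ : Z ∈ D.others) :
    orderOf T.sigma ≤ (orb T Z).card * (Nat.card K / D.W.ncard - 1) := by
  classical
  have h := Finset.card_le_mul_card_image (f := fun k => T.tau ^ k • Z)
    (Finset.range (orderOf T.sigma)) (Nat.card K / D.W.ncard - 1) (fun Z' hZ' => ?_)
  · rw [Finset.card_range, mul_comm] at h
    exact h
  obtain ⟨k0, -, rfl⟩ := Finset.mem_image.1 hZ'
  have hk0 := pow_mem_others D T hZ k0
  have hU := ncard_fstSet D hk0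
  have hWpos : 0 < D.W.ncard := (Set.ncard_pos (Set.toFinite _)).2 ⟨_, D.w0_mem⟩
  rw [← hU, Nat.mul_div_cancel _ hWpos]
  obtain ⟨v, hv, hv0⟩ : ∃ v ∈ Z, v.1 ≠ 0 := by
    by_contra hall
    push Not at hall
    obtain ⟨⟨⟨g, rfl⟩, hW, hx⟩, hne⟩ := hZ
    exact hne (Set.eq_of_subset_of_ncard_le (fun v hv => ⟨hall v hv, hx v hv⟩)
      (Set.ncard_smul_set g _).ge (Set.toFinite _))
  have h0 : (0 : K) ∈ fstSet (T.tau ^ k0 • Z) := ⟨_, hk0.1.2.1 D.w0_mem, rfl⟩
  rw [← Set.ncard_sdiff_singleton_of_mem h0, ← Set.ncard_coe_finset]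
  refine Set.ncard_le_ncard_of_injOn (fun k => T.sigma ^ k * v.1) (fun k hk => ?_) ?_ (Set.toFinite _)
  · obtain ⟨-, hk⟩ := Finset.mem_filter.1 hk
    refine ⟨⟨_, hk ▸ Set.smul_mem_smul_set hv, (smul_pow_fixed D T hq k (hZ.1.2.2 v hv)).2.1⟩,
      mul_ne_zero (pow_ne_zero _ fun h => ?_) hv0⟩
    have := T.order_sigma
    rw [h, orderOf_zero] at this
    omega
  · intro a ha b hb hab
    exact pow_injOn_Iio_orderOf (Finset.mem_range.1 (Finset.mem_filter.1 ha).1)
      (Finset.mem_range.1 (Finset.mem_filter.1 hb).1) (mul_right_cancel₀ hv0 hab)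

theorem orb_subset {Z : Set (K × K × K)} (hZ : Z ∈ D.others) :
    (orb T Z : Set (Set (K × K × K))) ⊆ D.others := fun Z' hZ' => by
  obtain ⟨k, -, rfl⟩ := (mem_orb T).1 hZ'
  exact pow_mem_others D T hZ k

theorem orb_full (hq : 3 < Nat.card K) {Z : Set (K × K × K)} (hZ : Z ∈ D.others)
    (h : ∀ k, k < orderOf T.sigma → T.tau ^ k • Z = Z → k = 0) :
    (orb T Z).card = orderOf T.sigma := by
  classical
  rw [orb, Finset.card_image_of_injOn, Finset.card_range]
  intro a ha b hb hab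
  simp only [Finset.coe_range, Set.mem_Iio] at ha hb
  have key : ∀ i j, i < orderOf T.sigma → j < orderOf T.sigma → i ≤ j →
      T.tau ^ i • Z = T.tau ^ j • Z → i = j := by
    intro i j hi hj hij he
    have e : T.tau ^ (j - i) • Z = Z := by
      have := congrArg (T.tau ^ (orderOf T.sigma - i) • ·) he
      rw [← mul_smul, ← mul_smul, ← pow_add, ← pow_add, Nat.sub_add_cancel hi.le,
        show orderOf T.sigma - i + j = orderOf T.sigma * 1 + (j - i) by omega,
        pow_period D T hq hZ, show orderOf T.sigma = orderOf T.sigma * 1 + 0 by omega,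
        pow_period D T hq hZ, pow_zero, one_smul] at this
      exact this.symm
    have := h (j - i) (by omega) e
    omega
  rcases le_total a b with hle | hle
  · exact key a b ha hb hle hab
  · exact (key b a hb ha hle hab.symm).symm

end MaxPair

end RootSetting

end Cfsg.Agent.Lib.SpFourExotic.Odd
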